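import Groth.Agent.L15.OrthSm.Rep
import Groth.Agent.L15.QG.Odd
import Groth.Agent.L15.QG.Even
import Mathlib.RingTheory.Jacobson.Ring
import Mathlib.RingTheory.Nullstellensatz
import Mathlib.FieldTheory.IsAlgClosed.Basic
import Mathlib.RingTheory.Spectrum.Prime.Topology

/-!
Irreducibility of the geometric fibres of special orthogonal groups, from generation by pairs of reflections.
-/

set_option autoImplicit false
set_option linter.style.haveILetI false

noncomputable section

universe u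

open TensorProduct QuadraticMap

namespace Groth.L11.SOGrp

open Groth.L15.QG

section Criterion

variable {K : Type u} [Field K] [IsAlgClosed K] {A : Type u} [CommRing A] [Algebra K A] [Algebra.FiniteType K A]

theorem exists_point_ne_zero {a : A} (ha : ¬ IsNilpotent a) : ∃ e : A →ₐ[K] K, e a ≠ 0 := by
  haveI : IsJacobsonRing A := isJacobsonRing_of_finiteType (A := K)
  have h1 : a ∉ (⊥ : Ideal A).jacobson := by
    rw [← Ideal.radical_eq_jacobson]; exact fun h => ha h
  obtain ⟨m, hm, ham⟩ : ∃ m : Ideal A, m.IsMaximal ∧ a ∉ m := by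
    by_contra hc
    push Not at hc
    exact h1 (Submodule.mem_sInf.2 fun J hJ => hc J hJ.2)
  haveI := hm
  letI := Ideal.Quotient.field m
  haveI : Algebra.FiniteType K (A ⧸ m) :=
    Algebra.FiniteType.of_surjective (Ideal.Quotient.mkₐ K m) Ideal.Quotient.mk_surjective
  haveI : Module.Finite K (A ⧸ m) := finite_of_finite_type_of_isJacobsonRing K (A ⧸ m)
  let i : K ≃ₐ[K] A ⧸ m := AlgEquiv.ofBijective (Algebra.ofId K _)
    (IsAlgClosed.algebraMap_bijective_of_isIntegral (k := K) (K := A ⧸ m))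
  refine ⟨i.symm.toAlgHom.comp (Ideal.Quotient.mkₐ K m), fun h => ham ?_⟩
  exact Ideal.Quotient.eq_zero_iff_mem.1 (i.symm.injective (h.trans (map_zero _).symm))

/-- Any two points lie in the closure of the image of a domain. -/
theorem irreducibleSpace_of_domains [Nontrivial A]
    (h : ∀ e e' : A →ₐ[K] K, ∃ (D : Type u) (_ : CommRing D) (_ : IsDomain D) (_ : Algebra K D)
      (φ : A →ₐ[K] D) (ψ ψ' : D →ₐ[K] K), ψ.comp φ = e ∧ ψ'.comp φ = e') :
    IrreducibleSpace (PrimeSpectrum A) := by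
  rw [PrimeSpectrum.irreducibleSpace_iff_isPrime_nilradical]
  refine ⟨fun htop => ?_, fun {a b} hab => ?_⟩
  · have h1 : (1 : A) ∈ nilradical A := htop ▸ Submodule.mem_top
    exact not_isNilpotent_one h1
  · by_contra hc
    push Not at hc
    obtain ⟨e, he⟩ := exists_point_ne_zero (K := K) hc.1
    obtain ⟨e', he'⟩ := exists_point_ne_zero (K := K) hc.2
    obtain ⟨D, _, _, _, φ, ψ, ψ', rfl, rfl⟩ := h e e'
    have h0 : φ a * φ b = 0 := by
      rw [← map_mul]; exact ((mem_nilradical.1 hab).map φ).eq_zero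
    rcases mul_eq_zero.1 h0 with h1 | h1
    · exact he (by rw [AlgHom.comp_apply, h1, map_zero])
    · exact he' (by rw [AlgHom.comp_apply, h1, map_zero])

end Criterion

variable {R : Type u} [CommRing R] {n : ℕ} (Q : QuadraticForm R (Fin n → R))

section Red

variable {A B : Type u} [CommRing A] [Algebra R A] [CommRing B] [Algebra R B] (φ : A →ₐ[R] B)

/-- Base change of vectors. -/
abbrev red : A ⊗[R] (Fin n → R) →ₗ[R] B ⊗[R] (Fin n → R) := LinearMap.rTensor (Fin n → R) φ.toLinearMap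

theorem red_smul (a : A) (w : A ⊗[R] (Fin n → R)) : red φ (a • w) = φ a • red φ w := by
  induction w using TensorProduct.induction_on with
  | zero => simp
  | tmul c x => simp [red, smul_tmul', smul_eq_mul]
  | add x y hx hy => simp only [smul_add, map_add, hx, hy]

theorem repr_red (w : A ⊗[R] (Fin n → R)) (i : Fin n) :
    (Groth.L15.OrthSm.bas R B).repr (red φ w) i = φ ((Groth.L15.OrthSm.bas R A).repr w i) := by
  induction w using TensorProduct.induction_on with
  | zero => simp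
  | tmul a m => simp [Groth.L15.OrthSm.bas, red]
  | add x y hx hy => simp only [map_add, Finsupp.add_apply, hx, hy]

theorem form_red (w : A ⊗[R] (Fin n → R)) :
    QuadGrp.baseChangeForm B Q (red φ w) = φ (QuadGrp.baseChangeForm A Q w) := by
  rw [Groth.L15.OrthSm.baseChangeForm_repr, Groth.L15.OrthSm.baseChangeForm_repr, Groth.L15.OrthSm.matForm_dot,
    Groth.L15.OrthSm.matForm_dot]
  simp only [dotProduct, Matrix.mulVec, Matrix.map_apply, map_sum, map_mul, AlgHom.commutes, repr_red]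

theorem polar_red (v w : A ⊗[R] (Fin n → R)) :
    polar (QuadGrp.baseChangeForm B Q) (red φ v) (red φ w) = φ (polar (QuadGrp.baseChangeForm A Q) v w) := by
  simp only [QuadraticMap.polar, ← map_add (red φ), form_red, map_sub]

/-- Base change of anisotropic vectors. -/
def redVec (v : {v : A ⊗[R] (Fin n → R) // IsUnit (QuadGrp.baseChangeForm A Q v)}) :
    {v : B ⊗[R] (Fin n → R) // IsUnit (QuadGrp.baseChangeForm B Q v)} :=
  ⟨red φ v.1, by rw [form_red]; exact v.2.map φ⟩

theorem refl_red (v : {v : A ⊗[R] (Fin n → R) // IsUnit (QuadGrp.baseChangeForm A Q v)})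
    (w : A ⊗[R] (Fin n → R)) :
    refl (QuadGrp.baseChangeForm B Q) (redVec Q φ v).1 (redVec Q φ v).2 (red φ w) =
      red φ (refl (QuadGrp.baseChangeForm A Q) v.1 v.2 w) := by
  have hinv : (↑(redVec Q φ v).2.unit⁻¹ : B) = φ (↑v.2.unit⁻¹ : A) := by
    refine (redVec Q φ v).2.mul_left_cancel ?_
    rw [IsUnit.mul_val_inv]
    show 1 = QuadGrp.baseChangeForm B Q (red φ v.1) * _
    rw [form_red, ← map_mul, IsUnit.mul_val_inv, map_one]
  rw [refl_apply, refl_apply, map_sub, red_smul, map_mul, hinv]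
  show _ - (_ * polar _ (red φ v.1) (red φ w)) • red φ v.1 = _
  rw [polar_red]

theorem reflProd_red (l : List {v : A ⊗[R] (Fin n → R) // IsUnit (QuadGrp.baseChangeForm A Q v)})
    (w : A ⊗[R] (Fin n → R)) : reflProd (l.map (redVec Q φ)) (red φ w) = red φ (reflProd l w) := by
  induction l with
  | nil => rfl
  | cons v l ih =>
    rw [List.map_cons, reflProd_cons, reflProd_cons, LinearEquiv.mul_apply, LinearEquiv.mul_apply, ih, refl_red]

theorem mat_reflProd_red (l : List {v : A ⊗[R] (Fin n → R) // IsUnit (QuadGrp.baseChangeForm A Q v)}) :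
    Groth.L15.OrthSm.mat B (reflProd (l.map (redVec Q φ))) = (Groth.L15.OrthSm.mat A (reflProd l)).map φ := by
  refine Groth.L15.OrthSm.mat_natural φ _ _ fun m => ?_
  rw [← reflProd_red]
  show _ = reflProd _ (LinearMap.rTensor _ _ ((1 : A) ⊗ₜ[R] m))
  rw [LinearMap.rTensor_tmul, AlgHom.toLinearMap_apply, map_one]

end Red

/-- Points of a matrix presentation of a subgroup family. -/
structure RepMat (S : ∀ (A : Type u) [CommRing A] [Algebra R A],
    Subgroup ((A ⊗[R] (Fin n → R)) ≃ₗ[A] (A ⊗[R] (Fin n → R)))) (A₀ : Type u) [CommRing A₀] [Algebra R A₀] where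
  U : Matrix (Fin n) (Fin n) A₀
  ext : ∀ (B : Type u) [CommRing B] [Algebra R B] (φ φ' : A₀ →ₐ[R] B), U.map φ = U.map φ' → φ = φ'
  exists_hom : ∀ (B : Type u) [CommRing B] [Algebra R B] (g : (B ⊗[R] (Fin n → R)) ≃ₗ[B] (B ⊗[R] (Fin n → R))),
    g ∈ S B → ∃ φ : A₀ →ₐ[R] B, U.map φ = Groth.L15.OrthSm.mat B g
  exists_elt : ∀ (B : Type u) [CommRing B] [Algebra R B] (φ : A₀ →ₐ[R] B),
    ∃ g ∈ S B, Groth.L15.OrthSm.mat B g = U.map φ

section Fibre

variable {A₀ : Type u} [CommRing A₀] [Algebra R A₀] [Algebra.FiniteType R A₀]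
  {S : ∀ (A : Type u) [CommRing A] [Algebra R A], Subgroup ((A ⊗[R] (Fin n → R)) ≃ₗ[A] (A ⊗[R] (Fin n → R)))}

theorem mem_of_even_length {B : Type u} [CommRing B] [Algebra R B]
    (hpair : ∀ (v w : {v : B ⊗[R] (Fin n → R) // IsUnit (QuadGrp.baseChangeForm B Q v)}),
      refl (QuadGrp.baseChangeForm B Q) v.1 v.2 * refl (QuadGrp.baseChangeForm B Q) w.1 w.2 ∈ S B) :
    ∀ (N : ℕ) (l : List {v : B ⊗[R] (Fin n → R) // IsUnit (QuadGrp.baseChangeForm B Q v)}),
      l.length = 2 * N → reflProd l ∈ S B := by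
  intro N
  induction N with
  | zero =>
    intro l hl
    rw [List.length_eq_zero_iff.1 (show l.length = 0 by omega), reflProd_nil]
    exact (S B).one_mem
  | succ N ih =>
    intro l hl
    match l, hl with
    | v :: w :: l, hl =>
      rw [reflProd_cons, reflProd_cons, ← mul_assoc]
      exact (S B).mul_mem (hpair v w) (ih l (by simp only [List.length_cons] at hl; omega))

/-- Appending trivial pairs. -/
theorem exists_padding {K : Type u} [CommRing K] [Algebra R K]
    (v₀ : {v : K ⊗[R] (Fin n → R) // IsUnit (QuadGrp.baseChangeForm K Q v)})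
    (l : List {v : K ⊗[R] (Fin n → R) // IsUnit (QuadGrp.baseChangeForm K Q v)}) :
    ∀ j, ∃ l' : List {v : K ⊗[R] (Fin n → R) // IsUnit (QuadGrp.baseChangeForm K Q v)},
      l'.length = l.length + 2 * j ∧ reflProd l' = reflProd l := by
  intro j
  induction j with
  | zero => exact ⟨l, rfl, rfl⟩
  | succ j ih =>
    obtain ⟨l', h1, h2⟩ := ih
    refine ⟨v₀ :: v₀ :: l', by simp only [List.length_cons]; omega, ?_⟩
    rw [reflProd_cons, reflProd_cons, ← mul_assoc, refl_mul_self, one_mul, h2]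

theorem irreducibleSpace_fibre (P : RepMat S A₀) (K : Type u) [Field K] [IsAlgClosed K] [Algebra R K]
    (v₀ : {v : K ⊗[R] (Fin n → R) // IsUnit (QuadGrp.baseChangeForm K Q v)})
    (hpair : ∀ (B : Type u) [CommRing B] [Algebra R B]
      (v w : {v : B ⊗[R] (Fin n → R) // IsUnit (QuadGrp.baseChangeForm B Q v)}),
      refl (QuadGrp.baseChangeForm B Q) v.1 v.2 * refl (QuadGrp.baseChangeForm B Q) w.1 w.2 ∈ S B)
    (hgen : ∀ g ∈ S K, ∃ l : List {v : K ⊗[R] (Fin n → R) // IsUnit (QuadGrp.baseChangeForm K Q v)},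
      Even l.length ∧ g = reflProd l) :
    IrreducibleSpace (PrimeSpectrum (K ⊗[R] A₀)) := by
  obtain ⟨e₁, -⟩ := P.exists_hom K 1 (S K).one_mem
  haveI : Nontrivial (K ⊗[R] A₀) :=
    (Algebra.TensorProduct.lift (AlgHom.id K K) e₁ fun _ _ => Commute.all _ _).toRingHom.domain_nontrivial
  refine irreducibleSpace_of_domains (K := K) fun e e' => ?_
  have hlist : ∀ ε : K ⊗[R] A₀ →ₐ[K] K, ∃ l : List {v : K ⊗[R] (Fin n → R) //
      IsUnit (QuadGrp.baseChangeForm K Q v)}, Even l.length ∧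
        P.U.map ((ε.restrictScalars R).comp Algebra.TensorProduct.includeRight) =
          Groth.L15.OrthSm.mat K (reflProd l) := by
    intro ε
    obtain ⟨g, hg, hgU⟩ := P.exists_elt K ((ε.restrictScalars R).comp Algebra.TensorProduct.includeRight)
    obtain ⟨l, hl, rfl⟩ := hgen g hg
    exact ⟨l, hl, hgU.symm⟩
  obtain ⟨l₁, ⟨N₁, h₁⟩, hl₁⟩ := hlist e
  obtain ⟨l₂, ⟨N₂, h₂⟩, hl₂⟩ := hlist e'
  obtain ⟨k₁, hk₁, hp₁⟩ := exists_padding Q v₀ l₁ N₂
  obtain ⟨k₂, hk₂, hp₂⟩ := exists_padding Q v₀ l₂ N₁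
  rw [← hp₁] at hl₁
  rw [← hp₂] at hl₂
  obtain ⟨N, hN, hN'⟩ : ∃ N, k₁.length = 2 * N ∧ k₂.length = 2 * N := ⟨N₁ + N₂, by omega, by omega⟩
  -- the universal product
  let P₀ := MvPolynomial (Fin (2 * N) × Fin n) K
  let vec : Fin (2 * N) → P₀ ⊗[R] (Fin n → R) := fun a =>
    ∑ i, (MvPolynomial.X (a, i) : P₀) • Groth.L15.OrthSm.bas R P₀ i
  let f : P₀ := ∏ a, QuadGrp.baseChangeForm P₀ Q (vec a)
  let ev : (Fin (2 * N) → K ⊗[R] (Fin n → R)) → (P₀ →ₐ[K] K) := fun x =>
    MvPolynomial.aeval fun p => (Groth.L15.OrthSm.bas R K).repr (x p.1) p.2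
  have hev : ∀ (x : Fin (2 * N) → K ⊗[R] (Fin n → R)) (a : Fin (2 * N)),
      red ((ev x).restrictScalars R) (vec a) = x a := by
    intro x a
    refine (Groth.L15.OrthSm.bas R K).repr.injective (Finsupp.ext fun i => ?_)
    rw [repr_red, Module.Basis.repr_sum_self]
    exact MvPolynomial.aeval_X _ _
  have hevf : ∀ x : Fin (2 * N) → {v : K ⊗[R] (Fin n → R) // IsUnit (QuadGrp.baseChangeForm K Q v)},
      IsUnit (ev (fun a => (x a).1) f) := by
    intro x
    simp only [f, map_prod]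
    refine IsUnit.prod_iff.2 fun a _ => ?_
    have h1 : QuadGrp.baseChangeForm K Q (x a).1 = ev (fun a => (x a).1) (QuadGrp.baseChangeForm P₀ Q (vec a)) :=
      (congrArg (QuadGrp.baseChangeForm K Q) (hev (fun a => (x a).1) a)).symm.trans
        (form_red Q ((ev fun a => (x a).1).restrictScalars R) (vec a))
    rw [← h1]
    exact (x a).2
  have hf : f ≠ 0 := fun h0 => (hevf fun _ => v₀).ne_zero (by rw [h0, map_zero])
  let D := Localization.Away f
  haveI : IsDomain D :=
    IsLocalization.isDomain_localization (powers_le_nonZeroDivisors_of_noZeroDivisors hf)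
  let ι₀ : P₀ →ₐ[R] D := IsScalarTower.toAlgHom R P₀ D
  have hunit : ∀ a, IsUnit (QuadGrp.baseChangeForm D Q (red ι₀ (vec a))) := fun a => by
    rw [form_red]
    refine isUnit_of_dvd_unit (map_dvd ι₀ (Finset.dvd_prod_of_mem (fun a => QuadGrp.baseChangeForm P₀ Q (vec a)) (Finset.mem_univ a))) ?_
    exact IsLocalization.map_units D (⟨f, Submonoid.mem_powers f⟩ : Submonoid.powers f)
  let L : List {v : D ⊗[R] (Fin n → R) // IsUnit (QuadGrp.baseChangeForm D Q v)} :=
    List.ofFn fun a => ⟨red ι₀ (vec a), hunit a⟩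
  obtain ⟨φ₀, hφ₀⟩ := P.exists_hom D (reflProd L) (mem_of_even_length Q (hpair D) N L List.length_ofFn)
  let φ : K ⊗[R] A₀ →ₐ[K] D := Algebra.TensorProduct.lift (Algebra.ofId K D) φ₀ fun _ _ => Commute.all _ _
  have hfac : ∀ (ε : K ⊗[R] A₀ →ₐ[K] K) (k : List {v : K ⊗[R] (Fin n → R) //
      IsUnit (QuadGrp.baseChangeForm K Q v)}), k.length = 2 * N →
      P.U.map ((ε.restrictScalars R).comp Algebra.TensorProduct.includeRight) =
          Groth.L15.OrthSm.mat K (reflProd k) → ∃ ψ : D →ₐ[K] K, ψ.comp φ = ε := by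
    intro ε k hk hε
    let x : Fin (2 * N) → {v : K ⊗[R] (Fin n → R) // IsUnit (QuadGrp.baseChangeForm K Q v)} :=
      fun a => k[(a : ℕ)]'(by rw [hk]; exact a.isLt)
    let ψ : D →ₐ[K] K := IsLocalization.Away.liftAlgHom f (hevf x)
    refine ⟨ψ, Algebra.TensorProduct.ext (Subsingleton.elim _ _) ?_⟩
    have hψ : (ψ.restrictScalars R).comp ι₀ = (ev fun a => (x a).1).restrictScalars R :=
      AlgHom.ext fun p => IsLocalization.Away.lift_eq f (hevf x) p
    have hred : ∀ a, red (ψ.restrictScalars R) (red ι₀ (vec a)) = (x a).1 := fun a => by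
      rw [← hev (fun a => (x a).1) a, ← hψ]
      exact (LinearMap.rTensor_comp_apply _ _ _ _).symm
    have hL : L.map (redVec Q (ψ.restrictScalars R)) = k := by
      refine List.ext_getElem (by simp [L, hk]) fun i h1 h2 => Subtype.ext ?_
      simp only [L, List.getElem_map, List.getElem_ofFn]
      exact hred _
    have h3 : φ₀ = (φ.restrictScalars R).comp Algebra.TensorProduct.includeRight :=
      AlgHom.ext fun a => (by simp [φ])
    refine P.ext K _ _ ?_
    rw [hε, ← hL, mat_reflProd_red, ← hφ₀, h3, Matrix.map_map]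
    rfl
  obtain ⟨ψ, hψ⟩ := hfac e k₁ hN hl₁
  obtain ⟨ψ', hψ'⟩ := hfac e' k₂ hN' hl₂
  exact ⟨D, inferInstance, inferInstance, inferInstance, φ, ψ, ψ', hψ, hψ'⟩

end Fibre

section Generation

variable {K : Type u} [Field K] [Infinite K] {M : Type u} [AddCommGroup M] [Module K M] [Module.Free K M]
  [Module.Finite K M] {q : QuadraticForm K M}

theorem fiveUnits_of_infinite (K : Type u) [Field K] [Infinite K] : FiveUnits K :=
  ⟨fun i => Infinite.natEmbedding K i, fun _ _ hij => isUnit_iff_ne_zero.2 (sub_ne_zero.2 fun h =>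
    hij (Fin.ext ((Infinite.natEmbedding K).injective h)))⟩

theorem exists_evenList_even {m : ℕ} (hm : 1 ≤ m) (hM : Module.finrank K M = 2 * m) (hq : QuadGrp.IsRegular q)
    {g : M ≃ₗ[K] M} (hg : g ∈ QuadGrp.SOeven q) :
    ∃ l : List {v : M // IsUnit (q v)}, Even l.length ∧ g = reflProd l := by
  obtain ⟨hgO, hgD⟩ := hg
  obtain ⟨F, hF⟩ := exists_evenFrame m q hM hq
  obtain ⟨l, hl⟩ := F.exists_eq_reflProd (fiveUnits_of_infinite K) hF hgO
  refine ⟨l, ?_, hl⟩
  obtain ⟨z, hz, -⟩ := F.exists_zed hF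
  by_contra hodd
  have hfix := (isDicksonTrivial_iff_of_zed hz hq (F.unit_e ⟨0, hm⟩) hgO).1 hgD
  have hmap := hz.map_reflProd l (reflProd_mem_O l)
  rw [if_neg hodd, ← cl_congr_mem hgO (reflProd_mem_O l) hl, hfix] at hmap
  exact hz.ne_one_sub hmap

theorem exists_evenList_odd {m : ℕ} (b : Module.Basis (Fin (2 * m + 1)) K M) {r : M} {F : PFrame q m}
    (hF : F.IsOdd r) {g : M ≃ₗ[K] M} (hg : g ∈ QuadGrp.SO' q) :
    ∃ l : List {v : M // IsUnit (q v)}, Even l.length ∧ g = reflProd l := by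
  obtain ⟨hgO, hgdet⟩ := hg
  have hdet : LinearMap.det g.toLinearMap = 1 := by
    have := congrArg Units.val (MonoidHom.mem_ker.1 hgdet)
    rwa [LinearEquiv.coe_det, Units.val_one] at this
  obtain ⟨l, a, ha, hfix, hr⟩ := F.exists_eq_reflProd_odd (fiveUnits_of_infinite K) hF hgO
  let ρ : {v : M // IsUnit (q v)} := ⟨r, hF.unit_r⟩
  have hext : ∀ h h' : M ≃ₗ[K] M, (∀ i, h (F.e i) = h' (F.e i) ∧ h (F.f i) = h' (F.f i)) → h r = h' r → h = h' := by
    intro h h' h1 h2
    refine LinearEquiv.toLinearMap_injective (LinearMap.ext_on hF.span ?_)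
    rintro _ (rfl | ⟨i, rfl⟩ | ⟨i, rfl⟩)
    · exact h2
    · exact (h1 i).1
    · exact (h1 i).2
  have hρr : refl q r hF.unit_r r = -r := by
    rw [refl_apply, QuadraticMap.polar_self, nsmul_eq_mul, Nat.cast_ofNat, mul_left_comm, hF.unit_r.val_inv_mul,
      mul_one, two_smul]
    abel
  have hρfix : ∀ i, refl q r hF.unit_r (F.e i) = F.e i ∧ refl q r hF.unit_r (F.f i) = F.f i := fun i =>
    ⟨refl_fix _ (by rw [QuadraticMap.polar_comm]; exact hF.orth_e i),
      refl_fix _ (by rw [QuadraticMap.polar_comm]; exact hF.orth_f i)⟩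
  obtain ⟨L, hL⟩ : ∃ L : List {v : M // IsUnit (q v)}, g = reflProd L := by
    have hinv : ∀ x : M ≃ₗ[K] M, reflProd l * g = x → g = reflProd l.reverse * x := fun x hx => by
      rw [← hx, ← mul_assoc, reflProd_reverse_mul, one_mul]
    rcases mul_self_eq_one_iff.1 ha with rfl | rfl
    · refine ⟨l.reverse, ?_⟩
      rw [← mul_one (reflProd l.reverse)]
      exact hinv 1 (hext _ _ (fun i => hfix i) (by rw [hr, one_smul]; rfl))
    · refine ⟨l.reverse ++ [ρ], ?_⟩
      rw [reflProd_append, reflProd_cons, reflProd_nil, mul_one]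
      refine hinv _ (hext _ _ (fun i => ⟨(hfix i).1.trans (hρfix i).1.symm, (hfix i).2.trans (hρfix i).2.symm⟩) ?_)
      rw [hr, hρr, neg_one_smul]
  by_cases he : Even L.length
  · exact ⟨L, he, hL⟩
  have h2 : (2 : K) = 0 := by
    rw [hL, det_reflProd, (Nat.not_even_iff_odd.1 he).neg_one_pow] at hdet
    linear_combination -hdet
  refine ⟨L ++ [ρ], by simpa [Nat.even_add_one] using he, ?_⟩
  have : refl q r hF.unit_r = 1 := hext _ _ hρfix (by
    rw [hρr]
    show -r = r
    rw [← sub_eq_zero, show -r - r = -((2 : K) • r) by rw [two_smul]; abel, h2, zero_smul, neg_zero])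
  rw [reflProd_append, reflProd_cons, reflProd_nil, mul_one, this, mul_one]
  exact hL

end Generation

end Groth.L11.SOGrp
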