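import Groth.Agent.L11.SOGrp.Tangent

/-!
Relative dimension and connected fibres of the special orthogonal group schemes.
-/

set_option autoImplicit false
set_option linter.style.haveILetI false

noncomputable section

universe u

open CategoryTheory AlgebraicGeometry TensorProduct Matrix

namespace Groth.L11.SOGrp

open Groth.L15.QG Groth.L15.OrthSm

variable {R : Type u} [CommRing R]

theorem mat_one {n : ℕ} (B : Type u) [CommRing B] [Algebra R B] :
    mat (R := R) (n := n) B 1 = 1 := LinearMap.toMatrix_id _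

theorem even_main (m : ℕ) (hm : 1 ≤ m) (Q : QuadraticForm R (Fin (2 * m) → R)) (hQ : QuadGrp.IsRegular Q)
    (G : Over (Spec (CommRingCat.of R))) [GrpObj G] (D : QuadGrp.SOrthRep Q G) :
    SmoothOfRelativeDimension (m * (2 * m - 1)) G.hom ∧
      ∀ s : ↥(Spec (CommRingCat.of R)), ConnectedSpace ↥(G.hom.fiber s) := by
  obtain ⟨F, hF, hFz⟩ := exists_szeds Q hQ
  let z : ∀ d : F, SZed Q (d : R) := fun d => (hFz d d.2).some
  obtain ⟨P⟩ := nonempty_repEven Q hQ hm F hF z
  obtain ⟨y, hy⟩ := exists_isIso P G D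
  haveI := hy
  haveI := finitePresentation_even Q F z
  refine smoothOfRelativeDimension_and_connected (formallySmooth_even Q hQ hm F z P) G y fun K _ _ _ => ⟨?_, ?_⟩
  · have hM : Module.finrank K (K ⊗[R] (Fin (2 * m) → R)) = 2 * m := finrank_vec K
    obtain ⟨F', hF'⟩ := exists_evenFrame m _ hM (isRegular_baseChange K hQ)
    refine irreducibleSpace_fibre Q P K ⟨_, F'.unit_e ⟨0, hm⟩⟩ (fun B _ _ v w => ?_) fun g hg => ?_
    · exact (mem_sorth_even_iff Q ⟨m, two_mul m⟩ B _).2 (refl_mul_refl_mem_SOeven _ _ v.2 _ w.2)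
    · exact exists_evenList_even hm hM (isRegular_baseChange K hQ)
        ((mem_sorth_even_iff Q ⟨m, two_mul m⟩ K g).1 hg)
  · obtain ⟨e, he⟩ := P.exists_hom K 1 (QuadGrp.sorth Q K).one_mem
    rw [mat_one] at he
    refine ⟨e, ?_⟩
    rw [finrank_derAt P e he (so ((bmat Q).map (algebraMap R K)))
      fun h => exists_elt_onePlus_iff_even hm Q hQ h]
    refine finrank_so _ ?_
    rw [← Matrix.transpose_map, ← Matrix.map_add _ (map_add _), ← RingHom.mapMatrix_apply, ← RingHom.map_det]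
    exact (isUnit_det_of_regular Q hQ).map _

theorem odd_main (m : ℕ) (Q : QuadraticForm R (Fin (2 * m + 1) → R))
    (hQ : QuadGrp.IsSemiregular (Pi.basisFun R (Fin (2 * m + 1))) (LinearEquiv.refl R R) Q)
    (G : Over (Spec (CommRingCat.of R))) [GrpObj G] (D : QuadGrp.SOrthRep Q G) :
    SmoothOfRelativeDimension (m * (2 * m + 1)) G.hom ∧
      ∀ s : ↥(Spec (CommRingCat.of R)), ConnectedSpace ↥(G.hom.fiber s) := by
  obtain ⟨y, hy⟩ := exists_isIso (repOdd Q) G D
  haveI := hy
  haveI : Algebra.FinitePresentation R (UnivOdd Q) := finitePresentation_univ _ _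
  refine smoothOfRelativeDimension_and_connected (formallySmooth_odd Q hQ) G y fun K _ _ _ => ⟨?_, ?_⟩
  · let b := (Pi.basisFun R (Fin (2 * m + 1))).baseChange K
    obtain ⟨F, r, hF⟩ := exists_oddFrame m b _ (isSemiregular_baseChange K (Pi.basisFun R (Fin (2 * m + 1))) hQ)
    refine irreducibleSpace_fibre Q (repOdd Q) K ⟨r, hF.unit_r⟩ (fun B _ _ v w => ?_) fun g hg => ?_
    · exact (mem_sorth_odd_iff Q ⟨m, rfl⟩ B _).2 (refl_mul_refl_mem_SO' _ _ v.2 _ w.2)
    · exact exists_evenList_odd b hF ((mem_sorth_odd_iff Q ⟨m, rfl⟩ K g).1 hg)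
  · obtain ⟨e, he⟩ := (repOdd Q).exists_hom K 1 (QuadGrp.sorth Q K).one_mem
    rw [mat_one] at he
    refine ⟨e, ?_⟩
    rw [finrank_derAt (repOdd Q) e he (sso ((bmat Q).map (algebraMap R K)))
      fun h => exists_elt_onePlus_iff_odd Q h]
    refine finrank_sso _ ?_
    rw [qs_map, ← hd_map]
    exact (isUnit_hd_of_semiregular Q hQ).map _

end Groth.L11.SOGrp
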