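import Groth.Agent.L15.OrthSm.Pts
import Mathlib.AlgebraicGeometry.Fiber
import Mathlib.AlgebraicGeometry.PullbackCarrier
import Mathlib.RingTheory.RingHom.LocallyStandardSmooth
import Mathlib.RingTheory.Etale.Kaehler
import Mathlib.RingTheory.Kaehler.Basic
import Mathlib.FieldTheory.IsAlgClosed.AlgebraicClosure
import Mathlib.RingTheory.Spectrum.Prime.FreeLocus

/-!
Relative dimension and connectedness of the fibres from geometric fibres and derivations at one point.
-/

set_option autoImplicit false
set_option linter.style.haveILetI false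

universe u

open CategoryTheory CategoryTheory.Limits AlgebraicGeometry
open scoped TensorProduct

namespace Groth.L11.SOGrp

variable {R A : Type u} [CommRing R] [CommRing A] [Algebra R A]

/-- The derivations of `A` at a point. -/
def derAt {K : Type u} [Field K] [Algebra R K] (e : A →ₐ[R] K) : Submodule K (A → K) where
  carrier := {D | (∀ a b, D (a + b) = D a + D b) ∧ (∀ r : R, D (algebraMap R A r) = 0) ∧
    ∀ a b, D (a * b) = e a * D b + e b * D a}
  add_mem' {D D'} h h' := by
    refine ⟨fun a b => ?_, fun r => ?_, fun a b => ?_⟩ <;>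
      simp only [Pi.add_apply, h.1, h'.1, h.2.1, h'.2.1, h.2.2, h'.2.2, add_zero] <;> ring
  zero_mem' := by
    refine ⟨fun a b => ?_, fun r => ?_, fun a b => ?_⟩ <;> simp
  smul_mem' c D h := by
    refine ⟨fun a b => ?_, fun r => ?_, fun a b => ?_⟩ <;>
      simp only [Pi.smul_apply, h.1, h.2.1, h.2.2, smul_eq_mul, mul_zero] <;> ring

theorem finrank_baseChange_kaehler {K : Type u} [Field K] [Algebra R K] [Algebra A K] [IsScalarTower R A K]
    [Module.Finite A Ω[A⁄R]] :
    Module.finrank K (K ⊗[A] Ω[A⁄R]) = Module.finrank K (derAt (IsScalarTower.toAlgHom R A K)) := by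
  let Φ : Module.Dual K (K ⊗[A] Ω[A⁄R]) →ₗ[K] derAt (IsScalarTower.toAlgHom R A K) :=
    { toFun := fun φ => ⟨fun a => φ (1 ⊗ₜ KaehlerDifferential.D R A a),
        fun a b => by simp only [map_add, TensorProduct.tmul_add],
        fun r => by simp only [Derivation.map_algebraMap, TensorProduct.tmul_zero, map_zero],
        fun a b => by
          simp only [Derivation.leibniz, TensorProduct.tmul_add, map_add, IsScalarTower.coe_toAlgHom']
          congr 1 <;>
          · rw [TensorProduct.tmul_smul, ← algebraMap_smul K, map_smul, smul_eq_mul]⟩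
      map_add' := fun _ _ => rfl
      map_smul' := fun _ _ => rfl }
  have hbij : Function.Bijective Φ := by
    constructor
    · intro φ φ' h
      have hD : ∀ a, φ (1 ⊗ₜ KaehlerDifferential.D R A a) = φ' (1 ⊗ₜ KaehlerDifferential.D R A a) :=
        fun a => congrFun (congrArg Subtype.val h) a
      refine TensorProduct.AlgebraTensorModule.ext fun c x => ?_
      rw [show c ⊗ₜ[A] x = c • ((1 : K) ⊗ₜ[A] x) by rw [TensorProduct.smul_tmul', smul_eq_mul, mul_one],
        map_smul, map_smul]
      congr 1
      have hx : x ∈ Submodule.span A (Set.range (KaehlerDifferential.D R A)) := by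
        rw [KaehlerDifferential.span_range_derivation]; trivial
      induction hx using Submodule.span_induction with
      | mem x hx => obtain ⟨a, rfl⟩ := hx; exact hD a
      | zero => simp
      | add x y _ _ hx hy => rw [TensorProduct.tmul_add, map_add, map_add, hx, hy]
      | smul a x _ hx =>
        rw [TensorProduct.tmul_smul, ← algebraMap_smul K, map_smul, map_smul, hx]
    · rintro ⟨D, h1, h2, h3⟩
      let D' : Derivation R A K :=
        Derivation.mk'
          { toFun := D
            map_add' := h1
            map_smul' := fun r a => by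
              rw [Algebra.smul_def, h3, h2, mul_zero, add_zero, IsScalarTower.coe_toAlgHom',
                ← IsScalarTower.algebraMap_apply, ← Algebra.smul_def]
              rfl }
          fun a b => by
            show D (a * b) = a • D b + b • D a
            rw [h3, Algebra.smul_def, Algebra.smul_def]; rfl
      refine ⟨D'.liftKaehlerDifferential.liftBaseChange K, Subtype.ext (funext fun a => ?_)⟩
      show D'.liftKaehlerDifferential.liftBaseChange K (1 ⊗ₜ KaehlerDifferential.D R A a) = D a
      rw [LinearMap.liftBaseChange_tmul, one_smul, Derivation.liftKaehlerDifferential_comp_D]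
      rfl
  rw [← (LinearEquiv.ofBijective Φ hbij).finrank_eq, Subspace.dual_finrank_eq]

/-- The hypothesis on geometric fibres. -/
def GeomHyp (R A : Type u) [CommRing R] [CommRing A] [Algebra R A] (d : ℕ) : Prop :=
  ∀ (K : Type u) [Field K] [IsAlgClosed K] [Algebra R K], IrreducibleSpace (PrimeSpectrum (K ⊗[R] A)) ∧
    ∃ e : A →ₐ[R] K, Module.finrank K (derAt e) = d

theorem range_geomFibre (K : Type u) [Field K] [Algebra R K] :
    Set.range (Spec.map (CommRingCat.ofHom (Algebra.TensorProduct.includeRight (R := R) (A := K) (B := A) :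
      A →+* K ⊗[R] A))) =
    Spec.map (CommRingCat.ofHom (algebraMap R A)) ⁻¹'
      Set.range (Spec.map (CommRingCat.ofHom (algebraMap R K))) := by
  rw [← pullbackSpecIso_inv_snd, Scheme.Hom.comp_base, TopCat.coe_comp, Set.range_comp,
    (pullbackSpecIso R K A).inv.surjective.range_eq, Set.image_univ, Scheme.Pullback.range_snd]

theorem range_point (p : PrimeSpectrum R) :
    Set.range (Spec.map (CommRingCat.ofHom (algebraMap R (AlgebraicClosure p.asIdeal.ResidueField)))) = {p} := by
  let K := AlgebraicClosure p.asIdeal.ResidueField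
  have : Subsingleton (Spec (CommRingCat.of K)) := inferInstanceAs (Subsingleton (PrimeSpectrum K))
  have hne : Nonempty (Spec (CommRingCat.of K)) := inferInstanceAs (Nonempty (PrimeSpectrum K))
  ext q
  refine ⟨?_, ?_⟩
  · rintro ⟨x, rfl⟩
    apply PrimeSpectrum.ext
    show Ideal.comap (algebraMap R K) x.asIdeal = p.asIdeal
    have hx : x.asIdeal = ⊥ := (Ideal.eq_bot_or_top x.asIdeal).resolve_right x.isPrime.ne_top
    rw [hx, ← RingHom.ker_eq_comap_bot, IsScalarTower.algebraMap_eq R p.asIdeal.ResidueField K,
      RingHom.ker_comp_of_injective _ (algebraMap p.asIdeal.ResidueField K).injective]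
    exact Ideal.ker_algebraMap_residueField p.asIdeal
  · rintro rfl
    obtain ⟨x⟩ := hne
    refine ⟨x, PrimeSpectrum.ext ?_⟩
    show Ideal.comap (algebraMap R K) x.asIdeal = q.asIdeal
    have hx : x.asIdeal = ⊥ := (Ideal.eq_bot_or_top x.asIdeal).resolve_right x.isPrime.ne_top
    rw [hx, ← RingHom.ker_eq_comap_bot, IsScalarTower.algebraMap_eq R q.asIdeal.ResidueField K,
      RingHom.ker_comp_of_injective _ (algebraMap q.asIdeal.ResidueField K).injective]
    exact Ideal.ker_algebraMap_residueField q.asIdeal

theorem rankAtStalk_eq_of_geom [Algebra.FinitePresentation R A] [Algebra.FormallySmooth R A] {d : ℕ}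
    (h : GeomHyp R A d) (q : PrimeSpectrum A) : Module.rankAtStalk (R := A) Ω[A⁄R] q = d := by
  let p : PrimeSpectrum R := q.comap (algebraMap R A)
  let K := AlgebraicClosure p.asIdeal.ResidueField
  obtain ⟨hirr, e, he⟩ := h K
  letI : Algebra A (K ⊗[R] A) := Algebra.TensorProduct.rightAlgebra
  obtain ⟨q', hq'⟩ : (q : ↥(Spec (CommRingCat.of A))) ∈ Set.range (Spec.map (CommRingCat.ofHom
      (Algebra.TensorProduct.includeRight (R := R) (A := K) (B := A) : A →+* K ⊗[R] A))) := by
    rw [range_geomFibre]
    show Spec.map (CommRingCat.ofHom (algebraMap R A)) q ∈ Set.range (Spec.map (CommRingCat.ofHom (algebraMap R K)))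
    rw [range_point]
    rfl
  let f : K ⊗[R] A →ₐ[K] K := Algebra.TensorProduct.lift (AlgHom.id K K) e fun _ _ => Commute.all _ _
  let q₀ : PrimeSpectrum (K ⊗[R] A) := ⟨RingHom.ker f, RingHom.ker_isPrime _⟩
  have hconst : Module.rankAtStalk (R := K ⊗[R] A) ((K ⊗[R] A) ⊗[A] Ω[A⁄R]) q' =
      Module.rankAtStalk (R := K ⊗[R] A) ((K ⊗[R] A) ⊗[A] Ω[A⁄R]) q₀ :=
    Module.isLocallyConstant_rankAtStalk.apply_eq_of_preconnectedSpace _ _
  rw [Module.rankAtStalk_baseChange, Module.rankAtStalk_baseChange] at hconst
  have h1 : q'.comap (algebraMap A (K ⊗[R] A)) = q := hq'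
  rw [h1] at hconst
  rw [hconst]
  letI : Algebra A K := e.toRingHom.toAlgebra
  haveI : IsScalarTower R A K := IsScalarTower.of_algebraMap_eq fun r => (e.commutes r).symm
  let x : PrimeSpectrum K := ⟨⊥, Ideal.isPrime_bot⟩
  have h2 : q₀.comap (algebraMap A (K ⊗[R] A)) = x.comap (algebraMap A K) := by
    apply PrimeSpectrum.ext
    ext a
    show f ((1 : K) ⊗ₜ[R] a) = 0 ↔ e a ∈ (⊥ : Ideal K)
    simp [f, Ideal.mem_bot]
  rw [h2, ← Module.rankAtStalk_baseChange, Module.rankAtStalk_eq_finrank_of_free,
    finrank_baseChange_kaehler]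
  exact he

theorem isStandardSmoothOfRelativeDimension_away [Algebra.FormallySmooth R A] [Algebra.FinitePresentation R A]
    {d : ℕ} (h : ∀ q, Module.rankAtStalk (R := A) Ω[A⁄R] q = d) (f : A) [Nontrivial (Localization.Away f)]
    [Algebra.IsStandardSmooth R (Localization.Away f)] :
    Algebra.IsStandardSmoothOfRelativeDimension d R (Localization.Away f) := by
  let B := Localization.Away f
  haveI : Algebra.FormallyEtale A B := Algebra.FormallyEtale.of_isLocalization (Submonoid.powers f)
  obtain ⟨x⟩ := (inferInstance : Nonempty (PrimeSpectrum B))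
  have e := Module.rankAtStalk_eq_of_equiv (R := B)
    (KaehlerDifferential.tensorKaehlerEquivOfFormallyEtale R A B)
  have h1 := congrFun e x
  rw [Module.rankAtStalk_baseChange, h, Module.rankAtStalk_eq_finrank_of_free] at h1
  rw [Algebra.IsStandardSmoothOfRelativeDimension.iff_of_isStandardSmooth, ← Module.finrank_eq_rank]
  exact congrArg _ h1.symm

/-- The criterion. -/
theorem smoothOfRelativeDimension_and_connected [Algebra.FinitePresentation R A] (hfs : Algebra.FormallySmooth R A)
    (G : Over (Spec (CommRingCat.of R))) (y : QuadGrp.specOver R A ⟶ G) [IsIso y.left] {d : ℕ}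
    (h : GeomHyp R A d) :
    SmoothOfRelativeDimension d G.hom ∧ ∀ s, ConnectedSpace ↥(G.hom.fiber s) := by
  let z : Spec (CommRingCat.of A) ⟶ G.left := y.left
  haveI : IsIso z := ‹IsIso y.left›
  have e : z ≫ G.hom = Spec.map (CommRingCat.ofHom (algebraMap R A)) := Over.w y
  constructor
  · suffices SmoothOfRelativeDimension d (Spec.map (CommRingCat.ofHom (algebraMap R A))) by
      rw [← e] at this
      exact (MorphismProperty.cancel_left_of_respectsIso (@SmoothOfRelativeDimension d) z G.hom).1 this
    rw [HasRingHomProperty.Spec_iff (P := @SmoothOfRelativeDimension d), CommRingCat.hom_ofHom]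
    haveI := hfs
    haveI : Algebra.Smooth R A := ⟨hfs, inferInstance⟩
    obtain ⟨s, hs, hloc⟩ := RingHom.Smooth.locally_isStandardSmooth
      (RingHom.smooth_algebraMap.2 (inferInstance : Algebra.Smooth R A))
    refine ⟨{f ∈ s | ¬ IsNilpotent f}, ?_, fun f hf => ?_⟩
    · rw [← top_le_iff]
      by_contra hne
      obtain ⟨M, hM, hle⟩ := Ideal.exists_le_maximal _ (fun hh => hne hh.ge)
      refine hM.ne_top (top_le_iff.1 (hs ▸ Ideal.span_le.2 fun f hf => ?_))
      by_cases hn : IsNilpotent f
      · obtain ⟨k, hk⟩ := hn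
        exact hM.isPrime.mem_of_pow_mem k (hk ▸ M.zero_mem)
      · exact hle (Ideal.subset_span ⟨hf, hn⟩)
    · haveI : Nontrivial (Localization.Away f) := by
        rw [← not_subsingleton_iff_nontrivial, IsLocalization.subsingleton_iff (M := Submonoid.powers f)]
        rintro ⟨k, hk⟩
        exact hf.2 ⟨k, hk⟩
      have hs' : Algebra.IsStandardSmooth R (Localization.Away f) := by
        have := hloc f hf.1
        rwa [← IsScalarTower.algebraMap_eq, RingHom.isStandardSmooth_algebraMap] at this
      have := isStandardSmoothOfRelativeDimension_away (rankAtStalk_eq_of_geom h) f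
      show RingHom.IsStandardSmoothOfRelativeDimension d (algebraMap R (Localization.Away f))
      rwa [RingHom.isStandardSmoothOfRelativeDimension_algebraMap]
  · intro s
    let K := AlgebraicClosure s.asIdeal.ResidueField
    haveI : IrreducibleSpace (PrimeSpectrum (K ⊗[R] A)) := (h K).1
    let j := Spec.map (CommRingCat.ofHom (Algebra.TensorProduct.includeRight (R := R) (A := K) (B := A) :
      A →+* K ⊗[R] A))
    have hr : Set.range (j ≫ z) = G.hom ⁻¹' {s} := by
      rw [Scheme.Hom.comp_base, TopCat.coe_comp, Set.range_comp, range_geomFibre, range_point, ← e,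
        Scheme.Hom.comp_base, TopCat.coe_comp, Set.preimage_comp,
        Set.image_preimage_eq _ z.surjective]
      rfl
    haveI : ConnectedSpace ↥(Spec (CommRingCat.of (K ⊗[R] A))) :=
      (inferInstance : ConnectedSpace (PrimeSpectrum (K ⊗[R] A)))
    have hc : _root_.IsConnected (G.hom ⁻¹' {s}) := hr ▸ isConnected_range (j ≫ z).continuous
    haveI : ConnectedSpace (G.hom ⁻¹' {s}) := isConnected_iff_connectedSpace.1 hc
    exact (G.hom.fiberHomeo s).symm.surjective.connectedSpace (G.hom.fiberHomeo s).symm.continuous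

end Groth.L11.SOGrp
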