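import Groth.Agent.L11.SOGrp.Univ
import Groth.Agent.L11.SOGrp.Rank
import Mathlib.Algebra.DualNumber
import Mathlib.RingTheory.DualNumber
import Mathlib.Data.Sym.Card

/-!
Tangent spaces at the identity of the special orthogonal groups.
-/

set_option autoImplicit false
set_option linter.style.haveILetI false

noncomputable section

universe u

open TensorProduct CliffordAlgebra Matrix TrivSqZeroExt

namespace Groth.L11.SOGrp

open Groth.L15.QG Groth.L15.OrthSm Groth.L11.GPinSm

variable {R : Type u} [CommRing R] {n : ℕ}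

section Dual

variable {K : Type u} [Field K] [Algebra R K]

/-- `1 + ε h`. -/
def onePlus (h : Matrix (Fin n) (Fin n) K) : Matrix (Fin n) (Fin n) (TrivSqZeroExt K K) :=
  1 + Matrix.of fun i j => inr (h i j)

theorem onePlus_map_fst (h : Matrix (Fin n) (Fin n) K) : (onePlus h).map fst = 1 := by
  ext i j
  by_cases hij : i = j <;> simp [onePlus, Matrix.one_apply, hij]

theorem onePlus_apply (h : Matrix (Fin n) (Fin n) K) (i j : Fin n) :
    (onePlus h) i j = inl ((1 : Matrix (Fin n) (Fin n) K) i j) + inr (h i j) := by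
  by_cases hij : i = j <;> simp [onePlus, Matrix.one_apply, hij]

theorem sq_zero (h : Matrix (Fin n) (Fin n) K) (i j k l : Fin n) :
    (Matrix.of fun i j => (inr (h i j) : TrivSqZeroExt K K)) i j *
      (Matrix.of fun i j => (inr (h i j) : TrivSqZeroExt K K)) k l = 0 :=
  inr_mul_inr _ _ _

theorem det_onePlus (h : Matrix (Fin n) (Fin n) K) : (onePlus h).det = 1 + inr h.trace := by
  rw [onePlus, det_one_add_sq_zero _ (sq_zero h)]
  congr 1
  simp only [Matrix.trace, Matrix.diag_apply, Matrix.of_apply]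
  exact (map_sum (inrHom K K) _ _).symm

theorem isUnit_det_onePlus (h : Matrix (Fin n) (Fin n) K) : IsUnit (onePlus h).det :=
  IsUnit.of_mul_eq_one (1 - inr h.trace) (by
    rw [det_onePlus, add_mul, mul_sub, mul_sub, inr_mul_inr]; ring)

theorem isometry_onePlus_iff (β : Matrix (Fin n) (Fin n) R) (h : Matrix (Fin n) (Fin n) K) :
    qs ((onePlus h)ᵀ * β.map (algebraMap R (TrivSqZeroExt K K)) * onePlus h) =
        qs (β.map (algebraMap R (TrivSqZeroExt K K))) ↔
      qs ((β.map (algebraMap R K) + (β.map (algebraMap R K))ᵀ) * h) = 0 := by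
  have hβ : β.map (algebraMap R (TrivSqZeroExt K K)) = (β.map (algebraMap R K)).map (inlHom K K) := by
    ext i j <;> simp [TrivSqZeroExt.algebraMap_eq_inl']
  rw [onePlus, expand_congr _ _ (sq_zero h), add_eq_left, hβ]
  have e : ((β.map (algebraMap R K)).map (inlHom K K) + ((β.map (algebraMap R K)).map (inlHom K K))ᵀ) *
      (Matrix.of fun i j => (inr (h i j) : TrivSqZeroExt K K)) =
      (inr (1 : K) : TrivSqZeroExt K K) •
        (((β.map (algebraMap R K) + (β.map (algebraMap R K))ᵀ) * h).map (inlHom K K)) := by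
    rw [Matrix.map_mul, Matrix.map_add _ (map_add _), Matrix.transpose_map, ← Matrix.mul_smul]
    congr 1
    ext i j <;> simp
  rw [e, map_smul, qs_map]
  constructor
  · intro h0
    funext s
    have h1 := congrArg TrivSqZeroExt.snd (congrFun h0 s)
    simpa using h1
  · intro h0
    rw [h0]
    funext s
    simp

end Dual

section Param

variable {S : ∀ (A : Type u) [CommRing A] [Algebra R A], Subgroup ((A ⊗[R] (Fin n → R)) ≃ₗ[A] (A ⊗[R] (Fin n → R)))}
  {A₀ : Type u} [CommRing A₀] [Algebra R A₀] {K : Type u} [Field K] [Algebra R K]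

/-- Derivations at the identity are the infinitesimal points. -/
theorem finrank_derAt (P : RepMat S A₀) (e : A₀ →ₐ[R] K) (he : P.U.map e = 1)
    (T : Submodule K (Matrix (Fin n) (Fin n) K))
    (hT : ∀ h : Matrix (Fin n) (Fin n) K, h ∈ T ↔
      ∃ g ∈ S (TrivSqZeroExt K K), mat (TrivSqZeroExt K K) g = onePlus h) :
    Module.finrank K (derAt e) = Module.finrank K T := by
  let Ψ : derAt e →ₗ[K] Matrix (Fin n) (Fin n) K :=
    { toFun := fun D => P.U.map D.1
      map_add' := fun _ _ => rfl
      map_smul' := fun _ _ => rfl }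
  have hlift : ∀ D : derAt e, ∃ φ : A₀ →ₐ[R] TrivSqZeroExt K K, ∀ a, φ a = inl (e a) + inr (D.1 a) := by
    rintro ⟨D, h1, h2, h3⟩
    refine ⟨{ toFun := fun a => inl (e a) + inr (D a), map_one' := ?_, map_mul' := ?_, map_zero' := ?_,
              map_add' := ?_, commutes' := ?_ }, fun _ => rfl⟩
    · have := h2 1
      rw [map_one] at this
      simp [this]
    · intro a b
      refine TrivSqZeroExt.ext ?_ ?_ <;> simp [h3, mul_comm]
    · have := h2 0
      rw [map_zero] at this
      simp [this]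
    · intro a b
      refine TrivSqZeroExt.ext ?_ ?_ <;> simp [h1]
    · intro r
      refine TrivSqZeroExt.ext ?_ ?_
      · simp [TrivSqZeroExt.algebraMap_eq_inl']
      · simp [h2, TrivSqZeroExt.algebraMap_eq_inl']
  have hU : ∀ (D : derAt e) (φ : A₀ →ₐ[R] TrivSqZeroExt K K), (∀ a, φ a = inl (e a) + inr (D.1 a)) →
      P.U.map φ = onePlus (Ψ D) := fun D φ hφ => by
    refine Matrix.ext fun i j => ?_
    rw [Matrix.map_apply, hφ, onePlus_apply, ← he]
    rfl
  have hinj : Function.Injective Ψ := by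
    intro D D' hDD
    obtain ⟨φ, hφ⟩ := hlift D
    obtain ⟨φ', hφ'⟩ := hlift D'
    have := P.ext _ φ φ' ((hU D φ hφ).trans ((congrArg onePlus hDD).trans (hU D' φ' hφ').symm))
    subst this
    refine Subtype.ext (funext fun a => ?_)
    have h1 := congrArg TrivSqZeroExt.snd ((hφ a).symm.trans (hφ' a))
    simpa using h1
  have hrange : LinearMap.range Ψ = T := by
    ext h
    rw [hT]
    constructor
    · rintro ⟨D, rfl⟩
      obtain ⟨φ, hφ⟩ := hlift D
      obtain ⟨g, hg, hgU⟩ := P.exists_elt _ φ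
      exact ⟨g, hg, hgU.trans (hU D φ hφ)⟩
    · rintro ⟨g, hg, hgh⟩
      obtain ⟨φ, hφ⟩ := P.exists_hom _ g hg
      rw [hgh] at hφ
      have hfst : ((TrivSqZeroExt.fstHom K K K).restrictScalars R).comp φ = e := by
        refine P.ext K _ _ ?_
        rw [he, ← onePlus_map_fst h, ← hφ, Matrix.map_map]
        rfl
      have hf : ∀ a, fst (φ a) = e a := fun a => DFunLike.congr_fun hfst a
      refine ⟨⟨fun a => snd (φ a), fun a b => by simp, fun r => ?_, fun a b => ?_⟩, ?_⟩
      · show snd (φ (algebraMap R A₀ r)) = 0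
        rw [φ.commutes, TrivSqZeroExt.algebraMap_eq_inl']
        simp
      · show snd (φ (a * b)) = _
        rw [map_mul, TrivSqZeroExt.snd_mul, hf, hf]
        simp [mul_comm]
      · refine Matrix.ext fun i j => ?_
        have h1 := congrArg TrivSqZeroExt.snd (congrFun (congrFun hφ i) j)
        rw [Matrix.map_apply, onePlus_apply] at h1
        simpa [Ψ] using h1
  rw [← hrange]
  exact (LinearEquiv.ofInjective Ψ hinj).finrank_eq

end Param

section Dim

variable {K : Type u} [Field K]

/-- The Lie algebra of the orthogonal group. -/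
def so (β : Matrix (Fin n) (Fin n) K) : Submodule K (Matrix (Fin n) (Fin n) K) :=
  LinearMap.ker (qs.comp (LinearMap.mulLeft K (β + βᵀ)))

theorem mem_so {β h : Matrix (Fin n) (Fin n) K} : h ∈ so β ↔ qs ((β + βᵀ) * h) = 0 := Iff.rfl

/-- The Lie algebra of the special orthogonal group in odd rank. -/
def sso (β : Matrix (Fin n) (Fin n) K) : Submodule K (Matrix (Fin n) (Fin n) K) :=
  so β ⊓ LinearMap.ker (Matrix.traceLinearMap (Fin n) K K)

theorem card_sym2 : Fintype.card (Sym2 (Fin n)) * 2 = (n + 1) * n := by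
  rw [Sym2.card, Fintype.card_fin, Nat.choose_two_right, Nat.add_sub_cancel,
    Nat.div_mul_cancel ?_]
  exact (Nat.even_mul_pred_self (n + 1)).two_dvd

theorem finrank_so {m : ℕ} (β : Matrix (Fin (2 * m)) (Fin (2 * m)) K) (hβ : IsUnit (β + βᵀ).det) :
    Module.finrank K (so β) = m * (2 * m - 1) := by
  classical
  let L : Matrix (Fin (2 * m)) (Fin (2 * m)) K →ₗ[K] (Sym2 (Fin (2 * m)) → K) :=
    qs.comp (LinearMap.mulLeft K (β + βᵀ))
  have hL : Function.Surjective L := fun δ => ⟨(β + βᵀ)⁻¹ * up δ, by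
    show qs ((β + βᵀ) * ((β + βᵀ)⁻¹ * up δ)) = δ
    rw [← Matrix.mul_assoc, Matrix.mul_nonsing_inv _ hβ, Matrix.one_mul, qs_up]⟩
  have h := LinearMap.finrank_range_add_finrank_ker L
  rw [LinearMap.range_eq_top.2 hL, finrank_top, Module.finrank_pi, Module.finrank_matrix, Fintype.card_fin,
    Module.finrank_self, mul_one] at h
  have hs := card_sym2 (n := 2 * m)
  change _ + Module.finrank K (so β) = _ at h
  rcases Nat.eq_zero_or_pos m with rfl | hm
  · simp at h ⊢; omega
  obtain ⟨k, rfl⟩ : ∃ k, m = k + 1 := ⟨m - 1, by omega⟩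
  rw [show 2 * (k + 1) - 1 = 2 * k + 1 by omega]
  nlinarith [h, hs]

theorem finrank_sso {m : ℕ} (β : Matrix (Fin (2 * m + 1)) (Fin (2 * m + 1)) K) (hβ : IsUnit (hd (qs β))) :
    Module.finrank K (sso β) = m * (2 * m + 1) := by
  classical
  have hn : Odd (2 * m + 1) := ⟨m, rfl⟩
  let r : Fin (2 * m + 1) := 0
  have hab : (1 : K) * ((2 * m + 1 : ℕ) : K) + (-(m : K)) * 2 = 1 := by push_cast; ring
  let L := linMap β r 1 (-(m : K))
  have hL : Function.Surjective L := surjective_linMap hn β hβ r 1 (-(m : K)) hab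
  have hker : ∀ (h : Matrix (Fin (2 * m + 1)) (Fin (2 * m + 1)) K) (t : K), (h, t) ∈ LinearMap.ker L ↔
      t = 0 ∧ h - h.trace • Matrix.single r r 1 ∈ sso β := by
    intro h t
    rw [LinearMap.mem_ker, linMap_apply]
    have htr : h - h.trace • Matrix.single r r 1 ∈ LinearMap.ker (Matrix.traceLinearMap (Fin (2 * m + 1)) K K) := by
      rw [LinearMap.mem_ker, Matrix.traceLinearMap_apply, Matrix.trace_sub, Matrix.trace_smul,
        Matrix.trace_single_eq_same, smul_eq_mul, mul_one, sub_self]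
    constructor
    · intro h0
      have h1 := congrArg (dhd (qs β)) h0
      rw [map_add, map_smul, map_add, map_smul, map_smul, dhd_polar hn, dhd_self hn, dhd_polar hn, map_zero,
        Matrix.trace_single_eq_same, show (h - h.trace • Matrix.single r r (1 : K)).trace = 0 from LinearMap.mem_ker.1 htr] at h1
      have ht : t = 0 := by
        refine hβ.mul_left_eq_zero.1 ?_
        simp only [smul_eq_mul, mul_one, mul_zero, zero_mul, zero_add] at h1
        linear_combination h1 - t * hd (qs β) * hab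
      rw [ht, zero_smul, add_zero] at h0
      exact ⟨ht, h0, htr⟩
    · rintro ⟨rfl, h0, -⟩
      rw [zero_smul, add_zero]
      exact h0
  let e : LinearMap.ker L ≃ₗ[K] sso β × K :=
    { toFun := fun x => (⟨x.1.1 - x.1.1.trace • Matrix.single r r 1, ((hker x.1.1 x.1.2).1 x.2).2⟩, x.1.1.trace)
      invFun := fun y => ⟨(y.1.1 + y.2 • Matrix.single r r 1, 0), (hker _ _).2 ⟨rfl, by
        have : y.1.1.trace = 0 := y.1.2.2
        rw [Matrix.trace_add, Matrix.trace_smul, Matrix.trace_single_eq_same, this, zero_add, smul_eq_mul, mul_one,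
          add_sub_cancel_right]
        exact y.1.2⟩⟩
      map_add' := fun x y => by
        refine Prod.ext (Subtype.ext ?_) ?_
        · show (x.1.1 + y.1.1) - (x.1.1 + y.1.1).trace • Matrix.single r r 1 =
            (x.1.1 - x.1.1.trace • Matrix.single r r 1) + (y.1.1 - y.1.1.trace • Matrix.single r r 1)
          rw [Matrix.trace_add, add_smul]; abel
        · show (x.1.1 + y.1.1).trace = x.1.1.trace + y.1.1.trace
          exact Matrix.trace_add _ _
      map_smul' := fun c x => by
        refine Prod.ext (Subtype.ext ?_) ?_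
        · show c • x.1.1 - (c • x.1.1).trace • Matrix.single r r 1 =
            c • (x.1.1 - x.1.1.trace • Matrix.single r r 1)
          rw [Matrix.trace_smul, smul_sub, smul_assoc]
        · show (c • x.1.1).trace = c • x.1.1.trace
          exact Matrix.trace_smul _ _
      left_inv := fun x => by
        refine Subtype.ext (Prod.ext ?_ ((hker x.1.1 x.1.2).1 x.2).1.symm)
        exact sub_add_cancel _ _
      right_inv := fun y => by
        have h0 : y.1.1.trace = 0 := y.1.2.2
        refine Prod.ext (Subtype.ext ?_) ?_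
        · show y.1.1 + y.2 • Matrix.single r r 1 - (y.1.1 + y.2 • Matrix.single r r 1).trace • _ = y.1.1
          rw [Matrix.trace_add, Matrix.trace_smul, Matrix.trace_single_eq_same, h0, zero_add, smul_eq_mul, mul_one,
            add_sub_cancel_right]
        · show (y.1.1 + y.2 • Matrix.single r r 1).trace = y.2
          rw [Matrix.trace_add, Matrix.trace_smul, Matrix.trace_single_eq_same, h0, zero_add, smul_eq_mul, mul_one] }
  have h := LinearMap.finrank_range_add_finrank_ker L
  rw [LinearMap.range_eq_top.2 hL, finrank_top, e.finrank_eq, Module.finrank_prod, Module.finrank_prod,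
    Module.finrank_pi, Module.finrank_matrix, Fintype.card_fin, Module.finrank_self, mul_one] at h
  have hs := card_sym2 (n := 2 * m + 1)
  nlinarith [h, hs]

end Dim

section Groups

variable {K : Type u} [Field K] [Algebra R K]

theorem exists_elt_onePlus_iff_odd {m : ℕ} (Q : QuadraticForm R (Fin (2 * m + 1) → R))
    (h : Matrix (Fin (2 * m + 1)) (Fin (2 * m + 1)) K) :
    h ∈ sso ((bmat Q).map (algebraMap R K)) ↔
      ∃ g ∈ QuadGrp.sorth Q (TrivSqZeroExt K K), mat (TrivSqZeroExt K K) g = onePlus h := by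
  constructor
  · rintro ⟨h1, h2⟩
    obtain ⟨g, hg⟩ := exists_mat (R := R) (TrivSqZeroExt K K) _ (isUnit_det_onePlus h)
    refine ⟨g, (mem_sorth_odd_iff Q ⟨m, rfl⟩ _ g).2 ⟨(mem_orth_iff Q _ g).2 ((mem_orth Q _ g).2 ?_), ?_⟩, hg⟩
    · rw [hg, isometry_onePlus_iff]; exact h1
    · refine (det_eq_one_iff _ g).2 ?_
      rw [hg, det_onePlus, show Matrix.trace h = 0 from h2, inr_zero, add_zero]
  · rintro ⟨g, hg, hgh⟩
    rw [mem_sorth_odd_iff Q ⟨m, rfl⟩] at hg
    have h1 := (mem_orth Q _ g).1 ((mem_orth_iff Q _ g).1 hg.1)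
    have h2 := (det_eq_one_iff _ g).1 hg.2
    rw [hgh] at h1 h2
    rw [det_onePlus, add_eq_left] at h2
    exact ⟨(isometry_onePlus_iff _ h).1 h1, LinearMap.mem_ker.2 (by simpa using congrArg TrivSqZeroExt.snd h2)⟩

theorem exists_elt_onePlus_iff_even {m : ℕ} (hm : 1 ≤ m) (Q : QuadraticForm R (Fin (2 * m) → R))
    (hQ : QuadGrp.IsRegular Q) (h : Matrix (Fin (2 * m)) (Fin (2 * m)) K) :
    h ∈ so ((bmat Q).map (algebraMap R K)) ↔
      ∃ g ∈ QuadGrp.sorth Q (TrivSqZeroExt K K), mat (TrivSqZeroExt K K) g = onePlus h := by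
  constructor
  · intro h1
    obtain ⟨g, hg⟩ := exists_mat (R := R) (TrivSqZeroExt K K) _ (isUnit_det_onePlus h)
    have hgO := (mem_orth_iff Q _ g).2 ((mem_orth Q _ g).2 (by rw [hg, isometry_onePlus_iff]; exact h1))
    refine ⟨g, (mem_sorth_even_iff Q ⟨m, two_mul m⟩ _ g).2 ⟨hgO, ?_⟩, hg⟩
    have hM : Module.finrank (TrivSqZeroExt K K) (TrivSqZeroExt K K ⊗[R] (Fin (2 * m) → R)) = 2 * m :=
      finrank_vec _
    have hQD := isRegular_baseChange (TrivSqZeroExt K K) hQ
    obtain ⟨F, hF⟩ := exists_evenFrame m _ hM hQD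
    obtain ⟨w, hw, -⟩ := F.exists_zed hF
    refine (isDicksonTrivial_iff_of_zed hw hQD (F.unit_e ⟨0, hm⟩) hgO).2 ?_
    rcases zed_det_dichotomy hM hQD hw hgO with ⟨h2, -⟩ | ⟨h2, -⟩
    · exact h2
    exfalso
    let φ : TrivSqZeroExt K K →ₐ[R] K := (fstHom K K K).restrictScalars R
    have hone : (1 : (K ⊗[R] (Fin (2 * m) → R)) ≃ₗ[K] (K ⊗[R] (Fin (2 * m) → R))) ∈
        QuadGrp.O (QuadGrp.baseChangeForm K Q) := Subgroup.one_mem _
    have h3 := mapC_cl Q φ hgO hone (by
      rw [hg]
      refine Eq.trans ?_ (onePlus_map_fst h).symm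
      rw [mat]
      exact LinearMap.toMatrix_id _) w
    rw [h2, map_sub, map_one, cl, map_one_isometry] at h3
    have hK : mapC Q φ (2 * w - 1) = 0 := by
      rw [map_sub, map_mul, map_ofNat, map_one, two_mul (mapC Q φ w)]
      nth_rewrite 1 [← h3]
      abel
    have hu := (hw.isUnit_del).map (mapC Q φ)
    rw [show del w = 2 * w - 1 by simp [del], hK] at hu
    haveI : Nontrivial (CA Q K) := ⟨⟨algebraMap K _ 0, algebraMap K _ 1, fun hh =>
      zero_ne_one (Groth.L15.QG.algebraMap_injective _ hh)⟩⟩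
    exact not_isUnit_zero hu
  · rintro ⟨g, hg, hgh⟩
    rw [mem_sorth_even_iff Q ⟨m, two_mul m⟩] at hg
    have h1 := (mem_orth Q _ g).1 ((mem_orth_iff Q _ g).1 hg.1)
    rw [hgh] at h1
    exact (isometry_onePlus_iff _ h).1 h1

end Groups

end Groth.L11.SOGrp
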