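import Groth.Agent.L11.SOGrp.Conn
import Groth.Agent.L11.GPinSm.Lift

/-!
Coordinate rings of the special orthogonal groups and their formal smoothness.
-/

set_option autoImplicit false
set_option linter.style.haveILetI false

noncomputable section

universe u

open CategoryTheory AlgebraicGeometry TensorProduct CliffordAlgebra

namespace Groth.L11.SOGrp

open Groth.L15.QG Groth.L11.GPinSm

variable {R : Type u} [CommRing R] {n : ℕ} (Q : QuadraticForm R (Fin n → R))

theorem finrank_vec (B : Type u) [CommRing B] [Algebra R B] [Nontrivial B] :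
    Module.finrank B (B ⊗[R] (Fin n → R)) = n := by
  rw [Module.finrank_eq_card_basis (Groth.L15.OrthSm.bas R B), Fintype.card_fin]

theorem subsingleton_equiv (B : Type u) [CommRing B] [Algebra R B] [Subsingleton B]
    (g : (B ⊗[R] (Fin n → R)) ≃ₗ[B] (B ⊗[R] (Fin n → R))) : g = 1 :=
  haveI : Subsingleton (B ⊗[R] (Fin n → R)) := Module.subsingleton B _
  LinearEquiv.ext fun _ => Subsingleton.elim _ _

theorem mem_sorth_even_iff (hn : Even n) (B : Type u) [CommRing B] [Algebra R B]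
    (g : (B ⊗[R] (Fin n → R)) ≃ₗ[B] (B ⊗[R] (Fin n → R))) :
    g ∈ QuadGrp.sorth Q B ↔ g ∈ QuadGrp.SOeven (QuadGrp.baseChangeForm B Q) := by
  rcases subsingleton_or_nontrivial B with hB | hB
  · rw [subsingleton_equiv B g]
    exact ⟨fun _ => Subgroup.one_mem _, fun _ => Subgroup.one_mem _⟩
  · rw [QuadGrp.sorth, QuadGrp.SO, if_pos (by rwa [finrank_vec B])]

theorem mem_sorth_odd_iff (hn : Odd n) (B : Type u) [CommRing B] [Algebra R B]
    (g : (B ⊗[R] (Fin n → R)) ≃ₗ[B] (B ⊗[R] (Fin n → R))) :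
    g ∈ QuadGrp.sorth Q B ↔ g ∈ QuadGrp.SO' (QuadGrp.baseChangeForm B Q) := by
  rcases subsingleton_or_nontrivial B with hB | hB
  · rw [subsingleton_equiv B g]
    exact ⟨fun _ => Subgroup.one_mem _, fun _ => Subgroup.one_mem _⟩
  · rw [QuadGrp.sorth, QuadGrp.SO, if_neg (by rw [finrank_vec B]; exact Nat.not_even_iff_odd.2 hn)]

open scoped MonObj in
/-- The comparison morphism from the coordinate ring. -/
theorem exists_isIso {S : ∀ (A : Type u) [CommRing A] [Algebra R A],
      Subgroup ((A ⊗[R] (Fin n → R)) ≃ₗ[A] (A ⊗[R] (Fin n → R)))} {A₀ : Type u} [CommRing A₀] [Algebra R A₀]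
    (P : RepMat S A₀) (G : Over (Spec (CommRingCat.of R))) [GrpObj G] (D : QuadGrp.LinRep R (Fin n → R) S G) :
    ∃ y : QuadGrp.specOver R A₀ ⟶ G, IsIso y.left := by
  obtain ⟨g₁, hg₁, hU⟩ := P.exists_elt A₀ (AlgHom.id R A₀)
  let y := (D.pts A₀).symm ⟨g₁, hg₁⟩
  have hy : ∀ (B : Type u) [CommRing B] [Algebra R B] (φ : A₀ →ₐ[R] B),
      Groth.L15.OrthSm.mat B (D.pts B (QuadGrp.specOverMap R φ ≫ y)).1 = P.U.map φ := by
    intro B _ _ φ
    rw [Groth.L15.OrthSm.mat_natural φ _ _ (D.natural _ B φ y), MulEquiv.apply_symm_apply, hU, Matrix.map_map]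
    rfl
  have hbij : ∀ (B : Type u) [CommRing B] [Algebra R B],
      Function.Bijective fun φ : A₀ →ₐ[R] B => QuadGrp.specOverMap R φ ≫ y := by
    intro B _ _
    refine ⟨fun φ φ' h => P.ext B φ φ' ?_, fun m => ?_⟩
    · rw [← hy B φ, ← hy B φ']
      exact congrArg (fun z => Groth.L15.OrthSm.mat B (D.pts B z).1) h
    · obtain ⟨φ, hφ⟩ := P.exists_hom B _ (D.pts B m).2
      exact ⟨φ, (D.pts B).injective (Subtype.ext (Groth.L15.OrthSm.mat_injective B ((hy B φ).trans hφ)))⟩
  refine ⟨y, Groth.L15.OrthSm.isIso_of_bijective_points (X := Spec (CommRingCat.of A₀)) y.left fun B g => ?_⟩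
  obtain ⟨f, hf⟩ : ∃ f, Spec.map f = g ≫ G.hom := ⟨Spec.preimage _, Spec.map_preimage _⟩
  letI : Algebra R B := f.hom.toAlgebra
  let g' : QuadGrp.specOver R B ⟶ G := Over.homMk g hf.symm
  obtain ⟨φ, hφ, -⟩ := (hbij B).existsUnique g'
  refine ⟨Spec.map (CommRingCat.ofHom φ.toRingHom), congrArg Over.Hom.left hφ, fun w hw => ?_⟩
  obtain ⟨ψ₀, rfl⟩ : ∃ ψ₀, Spec.map ψ₀ = w := ⟨Spec.preimage _, Spec.map_preimage _⟩
  have hstr : (CommRingCat.ofHom (algebraMap R A₀)) ≫ ψ₀ = f := by
    apply Spec.map_injective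
    rw [Spec.map_comp, hf, ← hw]
    exact (congrArg (Spec.map ψ₀ ≫ ·) (Over.w y).symm).trans (Category.assoc _ _ _).symm
  let ψ : A₀ →ₐ[R] B :=
    { ψ₀.hom with commutes' := fun r => congrArg (fun t : CommRingCat.of R ⟶ B => t.hom r) hstr }
  have : ψ = φ := (hbij B).1 (by
    change QuadGrp.specOverMap R ψ ≫ y = QuadGrp.specOverMap R φ ≫ y
    rw [show QuadGrp.specOverMap R φ ≫ y = g' from hφ]
    exact Over.OverMorphism.ext hw)
  rw [← this]
  rfl

/-- Matrices and semilinear compatibility. -/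
theorem red_apply_of_mat {A B : Type u} [CommRing A] [Algebra R A] [CommRing B] [Algebra R B] (φ : A →ₐ[R] B)
    {g : (A ⊗[R] (Fin n → R)) ≃ₗ[A] (A ⊗[R] (Fin n → R))} {g' : (B ⊗[R] (Fin n → R)) ≃ₗ[B] (B ⊗[R] (Fin n → R))}
    (h : Groth.L15.OrthSm.mat B g' = (Groth.L15.OrthSm.mat A g).map φ) (w : A ⊗[R] (Fin n → R)) :
    g' (red φ w) = red φ (g w) := by
  refine (Groth.L15.OrthSm.bas R B).repr.injective (Finsupp.ext fun i => ?_)
  rw [repr_red, Groth.L15.OrthSm.repr_apply, Groth.L15.OrthSm.repr_apply, h]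
  simp only [Matrix.mulVec, dotProduct, Matrix.map_apply, repr_red, map_sum, map_mul]

section Odd

variable {m : ℕ} (Q : QuadraticForm R (Fin (2 * m + 1) → R))

/-- The coordinate ring in odd rank. -/
abbrev UnivOdd : Type u := Groth.L15.OrthSm.Univ (Groth.L15.OrthSm.bmat Q) True

/-- Its points. -/
def repOdd : RepMat (fun A _ _ => QuadGrp.sorth Q A) (UnivOdd Q) where
  U := Groth.L15.OrthSm.univMat _ True
  ext _ _ _ _ _ h := Groth.L15.OrthSm.hom_injective h
  exists_hom B _ _ g hg := by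
    rw [mem_sorth_odd_iff Q ⟨m, rfl⟩] at hg
    exact Groth.L15.OrthSm.exists_hom ⟨(Groth.L15.OrthSm.mem_orth Q B g).1 ((mem_orth_iff Q B g).1 hg.1),
      Groth.L15.OrthSm.isUnit_mat_det B g, fun _ => (Groth.L15.OrthSm.det_eq_one_iff B g).1 hg.2⟩
  exists_elt B _ _ φ := by
    obtain ⟨h1, h2, h3⟩ := (Groth.L15.OrthSm.sol_univMat (Groth.L15.OrthSm.bmat Q) True).map φ
    obtain ⟨g, hg⟩ := Groth.L15.OrthSm.exists_mat (R := R) B _ h2
    rw [← hg] at h1 h3
    exact ⟨g, (mem_sorth_odd_iff Q ⟨m, rfl⟩ B g).2 ⟨(mem_orth_iff Q B g).2 ((Groth.L15.OrthSm.mem_orth Q B g).2 h1),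
      (Groth.L15.OrthSm.det_eq_one_iff B g).2 (h3 trivial)⟩, hg⟩

theorem formallySmooth_odd
    (hQ : QuadGrp.IsSemiregular (Pi.basisFun R (Fin (2 * m + 1))) (LinearEquiv.refl R R) Q) :
    Algebra.FormallySmooth R (UnivOdd Q) :=
  Groth.L15.OrthSm.formallySmooth_iff_lifts.2
    (Groth.L15.OrthSm.lifts_of_odd ⟨m, rfl⟩ _ (Groth.L15.OrthSm.isUnit_hd_of_semiregular Q hQ))

end Odd

/-- A scaled Arf element over the base. -/
structure SZed (Q : QuadraticForm R (Fin n → R)) (d : R) : Type u where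
  x : CliffordAlgebra Q
  s : R
  c : R
  even : x ∈ evenOdd Q 0
  anti : ∀ v, ι Q v * x = (algebraMap R _ s - x) * ι Q v
  sq : x * x = s • x + algebraMap R _ c
  d_eq : d = s * s + 4 * c

theorem SZed.central {Q : QuadraticForm R (Fin n → R)} {d : R} (z : SZed Q d) :
    ∀ y ∈ evenOdd Q 0, y * z.x = z.x * y := by
  intro y hy
  refine central_of_gen (Pi.basisFun R (Fin n)) (fun i j => ?_) hy
  rw [mul_assoc, z.anti, ← mul_assoc, mul_sub, ← Algebra.commutes, z.anti]
  noncomm_ring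

theorem anti_toC {R : Type u} [CommRing R] {M : Type u} [AddCommGroup M] [Module R M] [Module.Free R M]
    {Q : QuadraticForm R M} (A : Type u) [CommRing A] [Algebra R A] {x : CliffordAlgebra Q} {s : R}
    (h : ∀ v, CliffordAlgebra.ι Q v * x = (algebraMap R _ s - x) * CliffordAlgebra.ι Q v) (v : A ⊗[R] M) :
    CliffordAlgebra.ι (QuadGrp.baseChangeForm A Q) v * toC A Q x =
      (algebraMap A _ (algebraMap R A s) - toC A Q x) * CliffordAlgebra.ι _ v := by
  induction v using TensorProduct.induction_on with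
  | zero => simp
  | add p q hp hq => rw [map_add, add_mul, mul_add, hp, hq]
  | tmul b p =>
    rw [show b ⊗ₜ[R] p = b • ((1 : A) ⊗ₜ[R] p) by rw [TensorProduct.smul_tmul', smul_eq_mul, mul_one],
      map_smul, smul_mul_assoc, mul_smul_comm, ← toC_ι, ← map_mul, h, map_mul, map_sub, AlgHom.commutes,
      IsScalarTower.algebraMap_apply R A (CliffordAlgebra (QuadGrp.baseChangeForm A Q)) s]

theorem mapC_cl {A B : Type u} [CommRing A] [Algebra R A] [CommRing B] [Algebra R B] (φ : A →ₐ[R] B)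
    {g : (A ⊗[R] (Fin n → R)) ≃ₗ[A] (A ⊗[R] (Fin n → R))} {g' : (B ⊗[R] (Fin n → R)) ≃ₗ[B] (B ⊗[R] (Fin n → R))}
    (hg : g ∈ QuadGrp.O (QuadGrp.baseChangeForm A Q)) (hg' : g' ∈ QuadGrp.O (QuadGrp.baseChangeForm B Q))
    (h : Groth.L15.OrthSm.mat B g' = (Groth.L15.OrthSm.mat A g).map φ) (w : CA Q A) :
    mapC Q φ (cl hg w) = cl hg' (mapC Q φ w) := by
  induction w using CliffordAlgebra.induction with
  | algebraMap a => rw [AlgHom.commutes, mapC_algebraMap, AlgHom.commutes]
  | ι v =>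
    rw [cl, cl, CliffordAlgebra.map_apply_ι, mapC_ι, mapC_ι, CliffordAlgebra.map_apply_ι,
      QuadGrp.isometryOfMem_apply, QuadGrp.isometryOfMem_apply]
    exact congrArg _ (red_apply_of_mat φ h v).symm
  | mul a b ha hb => simp only [map_mul, ha, hb]
  | add a b ha hb => simp only [map_add, ha, hb]

theorem mapC_even {A B : Type u} [CommRing A] [Algebra R A] [CommRing B] [Algebra R B] (φ : A →ₐ[R] B)
    {x : CA Q A} (hx : x ∈ evenOdd (QuadGrp.baseChangeForm A Q) 0) :
    mapC Q φ x ∈ evenOdd (QuadGrp.baseChangeForm B Q) 0 := by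
  rw [← bc_oddPart_eq_zero_iff] at hx ⊢
  rw [← mapC_bc, hx, map_zero]

section Even

variable {m : ℕ}

/-- Scaled Arf elements exist around every prime. -/
theorem exists_szed_notMem (Q : QuadraticForm R (Fin (2 * m) → R)) (hQ : QuadGrp.IsRegular Q) (P : Ideal R)
    [P.IsPrime] : ∃ d ∉ P, Nonempty (SZed Q d) := by
  haveI := nontrivial_of_prime P
  let S := Localization.AtPrime P
  obtain ⟨z, hz, -⟩ := exists_zed_of_regular (finrank_RP P (Module.finrank_fin_fun R)) (isRegular_baseChange S hQ)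
  obtain ⟨c, hc, hcu⟩ := hz.sq
  obtain ⟨t, ht, x, hxe, hx⟩ := exists_lift_even (A := S) P.primeCompl hz.even
  obtain ⟨⟨r, ⟨e, he⟩⟩, hre⟩ := IsLocalization.surj P.primeCompl c
  let x₁ := e • x
  let s₁ := e * t
  let c₁ := t * t * e * r
  have hx₁ : toC S Q x₁ = algebraMap R S s₁ • z := by
    rw [toC_smul, hx, smul_smul, map_mul]
  have hx₁e : x₁ ∈ evenOdd Q 0 := Submodule.smul_mem _ _ hxe
  clear_value x₁
  have hanti : ∀ i, ∃ T ∈ P.primeCompl, T • (ι Q (Pi.single i 1) * x₁ -
      (algebraMap R _ s₁ - x₁) * ι Q (Pi.single i 1)) = 0 := fun i => by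
    refine exists_smul_eq_zero (A := S) P.primeCompl ?_
    rw [map_sub, map_mul, map_mul, map_sub, AlgHom.commutes, hx₁, toC_ι,
      IsScalarTower.algebraMap_apply R S (CliffordAlgebra _) s₁, mul_smul_comm, hz.anti, sub_mul,
      one_mul, smul_sub, sub_mul, ← Algebra.smul_def, smul_mul_assoc, sub_self]
  obtain ⟨T₀, hT₀, hsq⟩ : ∃ T ∈ P.primeCompl, T • (x₁ * x₁ - (s₁ • x₁ + algebraMap R _ c₁)) = 0 := by
    refine exists_smul_eq_zero (A := S) P.primeCompl ?_
    have hc₁ : algebraMap R S c₁ = algebraMap R S s₁ * algebraMap R S s₁ * c := by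
      show algebraMap R S (t * t * e * r) = algebraMap R S (e * t) * algebraMap R S (e * t) * c
      simp only [map_mul]
      rw [← hre]
      ring
    rw [map_sub, map_add, map_mul, toC_smul, AlgHom.commutes, hx₁,
      IsScalarTower.algebraMap_apply R S (CliffordAlgebra _) c₁, hc₁, smul_mul_smul_comm, hc, smul_add, smul_smul,
      Algebra.smul_def (algebraMap R S s₁ * algebraMap R S s₁) (algebraMap S _ c)]
    simp only [map_mul, mul_assoc, sub_self]
  choose T hT hTk using hanti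
  let U := T₀ * ∏ i, T i
  have hU : U ∈ P.primeCompl := P.primeCompl.mul_mem hT₀ (P.primeCompl.prod_mem fun i _ => hT i)
  refine ⟨(U * s₁) * (U * s₁) + 4 * (U * U * c₁), fun hd => ?_, ⟨⟨U • x₁, U * s₁, U * U * c₁,
    Submodule.smul_mem _ _ hx₁e, fun v => ?_, ?_, rfl⟩⟩⟩
  · have hu : IsUnit (algebraMap R S ((U * s₁) * (U * s₁) + 4 * (U * U * c₁))) := by
      have h1 : algebraMap R S ((U * s₁) * (U * s₁) + 4 * (U * U * c₁)) =
          algebraMap R S (U * e * t) * algebraMap R S (U * e * t) * (4 * c + 1) := by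
        show algebraMap R S ((U * (e * t)) * (U * (e * t)) + 4 * (U * U * (t * t * e * r))) = _
        simp only [map_add, map_mul, map_ofNat]
        rw [← hre]
        ring
      rw [h1]
      exact (((IsLocalization.map_units S (⟨_, P.primeCompl.mul_mem (P.primeCompl.mul_mem hU he) ht⟩ :
        P.primeCompl)).mul (IsLocalization.map_units S (⟨_, P.primeCompl.mul_mem (P.primeCompl.mul_mem hU he) ht⟩ :
        P.primeCompl)))).mul hcu
    exact (IsLocalization.AtPrime.isUnit_to_map_iff S P _).1 hu hd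
  · have : (LinearMap.mulRight R (U • x₁)).comp (ι Q) =
        (LinearMap.mulLeft R (algebraMap R (CliffordAlgebra Q) (U * s₁) - U • x₁)).comp (ι Q) := by
      refine (Pi.basisFun R (Fin (2 * m))).ext fun i => ?_
      show ι Q _ * (U • x₁) = (algebraMap R _ (U * s₁) - U • x₁) * ι Q _
      rw [Pi.basisFun_apply, map_mul, ← Algebra.smul_def, ← smul_sub, mul_smul_comm, smul_mul_assoc,
        ← sub_eq_zero, ← smul_sub]
      show (T₀ * ∏ j, T j) • _ = (0 : CliffordAlgebra Q)
      rw [← Finset.prod_erase_mul Finset.univ T (Finset.mem_univ i), mul_smul, mul_smul, hTk, smul_zero, smul_zero]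
    exact LinearMap.congr_fun this v
  · have h0 : U • (x₁ * x₁ - (s₁ • x₁ + algebraMap R _ c₁)) = 0 := by
      show (T₀ * ∏ j, T j) • _ = (0 : CliffordAlgebra Q)
      rw [mul_smul, smul_comm, hsq, smul_zero]
    rw [smul_sub, sub_eq_zero] at h0
    rw [smul_mul_smul_comm, mul_smul, h0, Algebra.algebraMap_eq_smul_one, Algebra.algebraMap_eq_smul_one]
    module

/-- Finitely many scaled Arf elements suffice. -/
theorem exists_szeds (Q : QuadraticForm R (Fin (2 * m) → R)) (hQ : QuadGrp.IsRegular Q) :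
    ∃ F : Finset R, (1 : R) ∈ Ideal.span (F : Set R) ∧ ∀ d ∈ F, Nonempty (SZed Q d) := by
  have h : (1 : R) ∈ Submodule.span R {d : R | Nonempty (SZed Q d)} := by
    by_contra hc
    obtain ⟨P, hP, hle⟩ := Ideal.exists_le_maximal (Ideal.span {d : R | Nonempty (SZed Q d)})
      (fun htop => hc (by show (1 : R) ∈ Ideal.span _; rw [htop]; trivial))
    obtain ⟨d, hd, hz⟩ := exists_szed_notMem Q hQ P
    exact hd (hle (Ideal.subset_span hz))
  obtain ⟨F, hF, h1⟩ := Submodule.mem_span_finite_of_mem_span h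
  exact ⟨F, h1, fun d hd => hF hd⟩

variable (Q : QuadraticForm R (Fin (2 * m) → R)) (hQ : QuadGrp.IsRegular Q) (hm : 1 ≤ m)
  (F : Finset R) (hF : (1 : R) ∈ Ideal.span (F : Set R)) (z : ∀ d : F, SZed Q (d : R))

include hQ hm hF in
/-- The Dickson condition through the scaled Arf elements. -/
theorem mem_SOeven_iff {B : Type u} [CommRing B] [Algebra R B]
    {g : (B ⊗[R] (Fin (2 * m) → R)) ≃ₗ[B] (B ⊗[R] (Fin (2 * m) → R))}
    (hg : g ∈ QuadGrp.O (QuadGrp.baseChangeForm B Q)) :
    g ∈ QuadGrp.SOeven (QuadGrp.baseChangeForm B Q) ↔ ∀ k, cl hg (toC B Q (z k).x) = toC B Q (z k).x := by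
  constructor
  · rintro ⟨_, hD⟩ k
    exact hD ⟨_, toC_mem_evenOdd B Q (z k).even⟩ (Subalgebra.mem_center_iff.2 fun y =>
      Subtype.ext (toC_mem_central (z k).central y.2))
  · intro hfix
    refine ⟨hg, ?_⟩
    rcases subsingleton_or_nontrivial B with hB | hB
    · intro x hx
      haveI : Subsingleton (CA Q B) := Module.subsingleton B _
      exact Subsingleton.elim _ _
    have hM : Module.finrank B (B ⊗[R] (Fin (2 * m) → R)) = 2 * m := finrank_vec B
    refine dickson_of_forall_fix hm hM (isRegular_baseChange B hQ) hg fun P _ w hw => ?_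
    haveI := hw
    let S := Localization.AtPrime P
    obtain ⟨k, hk⟩ : ∃ k : F, algebraMap R B (k : R) ∉ P := by
      by_contra hc
      push Not at hc
      have : Ideal.span (F : Set R) ≤ P.comap (algebraMap R B) := Ideal.span_le.2 fun d hd => hc ⟨d, hd⟩
      exact Ideal.IsPrime.ne_top (I := P) inferInstance
        ((Ideal.eq_top_iff_one P).2 (map_one (algebraMap R B) ▸ this hF))
    obtain ⟨F', hF'⟩ := exists_evenFrame m _ (finrank_RP P hM) (isRegular_baseChange S (isRegular_baseChange B hQ))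
    have hQS : QuadGrp.IsRegular (QuadGrp.baseChangeForm S (QuadGrp.baseChangeForm B Q)) :=
      isRegular_baseChange S (isRegular_baseChange B hQ)
    let X := toC S (QuadGrp.baseChangeForm B Q) (toC B Q (z k).x)
    let s' : S := algebraMap B S (algebraMap R B (z k).s)
    let c' : S := algebraMap B S (algebraMap R B (z k).c)
    have hv₀ := F'.unit_e ⟨0, hm⟩
    obtain ⟨a, c, hX⟩ := hw.exists_of_central hQS hv₀
      (toC_mem_evenOdd S _ (toC_mem_evenOdd B Q (z k).even)) fun y hy =>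
        toC_mem_central (fun y' hy' => toC_mem_central (z k).central hy') hy
    have hsq : X * X = s' • X + algebraMap S _ c' := by
      have h1 := congrArg (fun y => toC S (QuadGrp.baseChangeForm B Q) (toC B Q y)) (z k).sq
      simp only [map_mul, map_add, toC_smul, AlgHom.commutes] at h1
      rw [h1, IsScalarTower.algebraMap_apply R B (CA Q B) (z k).c, AlgHom.commutes,
        IsScalarTower.algebraMap_apply B S (CliffordAlgebra _)]
    -- the relation `2 a + c = s`
    have hs : 2 * a + c = s' := by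
      obtain ⟨v₀, hv₀u, hanti⟩ : ∃ v, IsUnit (ι (QuadGrp.baseChangeForm S (QuadGrp.baseChangeForm B Q)) v) ∧
          ι _ v * X = (algebraMap S _ s' - X) * ι _ v := by
        exact ⟨_, isUnit_ι _ _ hv₀, anti_toC S (anti_toC B (z k).anti) _⟩
      rw [show X = _ from hX, mul_add, mul_smul_comm, hw.anti, sub_mul, sub_mul, add_mul, one_mul, smul_sub,
        ← Algebra.commutes a, smul_mul_assoc] at hanti
      have h0 : algebraMap S (CliffordAlgebra (QuadGrp.baseChangeForm S (QuadGrp.baseChangeForm B Q)))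
          (2 * a + c - s') * ι _ v₀ = 0 := by
        simp only [map_sub, map_add, map_mul, map_ofNat, Algebra.smul_def] at hanti ⊢
        rw [← sub_eq_zero] at hanti
        rw [← hanti]
        noncomm_ring
      rw [hv₀u.mul_left_eq_zero] at h0
      exact sub_eq_zero.1 (algebraMap_injective _ (h0.trans (map_zero _).symm))
    obtain ⟨c₀, hc₀, -⟩ := hw.sq
    have hc : IsUnit c := by
      have hd : algebraMap B S (algebraMap R B (k : R)) = c * c * (4 * c₀ + 1) := by
        refine algebraMap_injective (QuadGrp.baseChangeForm S (QuadGrp.baseChangeForm B Q)) ?_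
        have h2 : (2 * X - algebraMap S _ s') * (2 * X - algebraMap S _ s') =
            algebraMap S _ (algebraMap B S (algebraMap R B (k : R))) := by
          rw [show (2 * X - algebraMap S _ s') * (2 * X - algebraMap S _ s') =
              4 * (X * X) - 2 * (algebraMap S _ s' * X) - 2 * (X * algebraMap S _ s') +
                algebraMap S _ s' * algebraMap S _ s' by noncomm_ring,
            ← Algebra.commutes s' X, hsq, (z k).d_eq, Algebra.smul_def]
          simp only [map_add, map_mul, map_ofNat]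
          show _ = algebraMap S _ s' * algebraMap S _ s' + 4 * algebraMap S _ c'
          noncomm_ring
        have h3 : (2 * X - algebraMap S _ s') * (2 * X - algebraMap S _ s') =
            algebraMap S _ (c * c * (4 * c₀ + 1)) := by
          rw [show X = _ from hX, ← hs]
          simp only [map_add, map_mul, map_ofNat, map_one, Algebra.smul_def]
          rw [show (2 * (algebraMap S _ a + algebraMap S _ c * w) - (2 * algebraMap S _ a + algebraMap S _ c)) =
              algebraMap S _ c * (2 * w - 1) by noncomm_ring, mul_assoc, ← mul_assoc (2 * w - 1),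
            ← Algebra.commutes c, mul_assoc, ← mul_assoc (algebraMap S _ c) (algebraMap S _ c),
            show (2 * w - 1) * (2 * w - 1) = 4 * (w * w) - 4 * w + 1 by noncomm_ring, hc₀]
          noncomm_ring
        exact h2.symm.trans h3
      have hu : IsUnit (algebraMap B S (algebraMap R B (k : R))) :=
        IsLocalization.map_units S (⟨_, hk⟩ : P.primeCompl)
      rw [hd] at hu
      exact isUnit_of_mul_isUnit_left (isUnit_of_mul_isUnit_left hu)
    have hfixX : cl (baseChange_mem_O S hg) X = X := by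
      show CliffordAlgebra.map _ (toC S _ (toC B Q (z k).x)) = _
      rw [map_toC S hg]
      exact congrArg _ (hfix k)
    rw [show X = _ from hX, map_add, AlgHom.commutes, map_smul, add_left_cancel_iff] at hfixX
    exact hc.smul_left_cancel.1 hfixX

/-- The chosen isometry with the generic matrix. -/
def genIso : ((Groth.L15.OrthSm.Univ (Groth.L15.OrthSm.bmat Q) False) ⊗[R] (Fin (2 * m) → R)) ≃ₗ[
    Groth.L15.OrthSm.Univ (Groth.L15.OrthSm.bmat Q) False]
    ((Groth.L15.OrthSm.Univ (Groth.L15.OrthSm.bmat Q) False) ⊗[R] (Fin (2 * m) → R)) :=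
  (Groth.L15.OrthSm.exists_mat (R := R) _ _ (Groth.L15.OrthSm.sol_univMat (Groth.L15.OrthSm.bmat Q) False).2.1).choose

theorem mat_genIso : Groth.L15.OrthSm.mat _ (genIso Q) = Groth.L15.OrthSm.univMat (Groth.L15.OrthSm.bmat Q) False :=
  (Groth.L15.OrthSm.exists_mat (R := R) _ _
    (Groth.L15.OrthSm.sol_univMat (Groth.L15.OrthSm.bmat Q) False).2.1).choose_spec

theorem genIso_mem : genIso Q ∈ QuadGrp.O (QuadGrp.baseChangeForm _ Q) :=
  (mem_orth_iff Q _ _).2 ((Groth.L15.OrthSm.mem_orth Q _ _).2 (by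
    rw [mat_genIso]; exact (Groth.L15.OrthSm.sol_univMat _ False).1))

/-- The defect. -/
def defect (k : F) : CA Q (Groth.L15.OrthSm.Univ (Groth.L15.OrthSm.bmat Q) False) :=
  cl (genIso_mem Q) (toC _ Q (z k).x) - toC _ Q (z k).x

/-- The extra equations. -/
def dicksonEqns : Ideal (Groth.L15.OrthSm.Univ (Groth.L15.OrthSm.bmat Q) False) :=
  Ideal.span (Set.range fun p : F × Finset (Fin (2 * m)) => (coord Q _).repr (defect Q F z p.1) p.2)

/-- The coordinate ring in even rank. -/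
abbrev UnivEven : Type u := Groth.L15.OrthSm.Univ (Groth.L15.OrthSm.bmat Q) False ⧸ dicksonEqns Q F z

theorem finitePresentation_even : Algebra.FinitePresentation R (UnivEven Q F z) :=
  haveI := Groth.L15.OrthSm.finitePresentation_univ (Groth.L15.OrthSm.bmat Q) False
  Algebra.FinitePresentation.quotient (Submodule.fg_span (Set.finite_range _))

theorem mapC_defect {B : Type u} [CommRing B] [Algebra R B]
    (φ : Groth.L15.OrthSm.Univ (Groth.L15.OrthSm.bmat Q) False →ₐ[R] B)
    {g : (B ⊗[R] (Fin (2 * m) → R)) ≃ₗ[B] (B ⊗[R] (Fin (2 * m) → R))}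
    (hg : g ∈ QuadGrp.O (QuadGrp.baseChangeForm B Q))
    (h : Groth.L15.OrthSm.mat B g = (Groth.L15.OrthSm.univMat (Groth.L15.OrthSm.bmat Q) False).map φ) (k : F) :
    mapC Q φ (defect Q F z k) = cl hg (toC B Q (z k).x) - toC B Q (z k).x := by
  rw [defect, map_sub, mapC_cl Q φ (genIso_mem Q) hg (by rw [mat_genIso, h]), mapC_toC]

include hQ hm hF in
/-- Its points. -/
theorem nonempty_repEven : Nonempty (RepMat (fun A _ _ => QuadGrp.sorth Q A) (UnivEven Q F z)) := by
  let mk := Ideal.Quotient.mkₐ R (dicksonEqns Q F z)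
  refine ⟨⟨(Groth.L15.OrthSm.univMat _ False).map mk, fun B _ _ φ φ' h => ?_, fun B _ _ g hg => ?_,
    fun B _ _ φ => ?_⟩⟩
  · refine Ideal.Quotient.algHom_ext _ (Groth.L15.OrthSm.hom_injective ?_)
    rw [Matrix.map_map, Matrix.map_map] at h
    exact h
  · rw [mem_sorth_even_iff Q ⟨m, two_mul m⟩] at hg
    have hgO := hg.1
    obtain ⟨φ, hφ⟩ := Groth.L15.OrthSm.exists_hom (β := Groth.L15.OrthSm.bmat Q) (sp := False)
      ⟨(Groth.L15.OrthSm.mem_orth Q B g).1 ((mem_orth_iff Q B g).1 hgO), Groth.L15.OrthSm.isUnit_mat_det B g,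
        False.elim⟩
    have hker : dicksonEqns Q F z ≤ RingHom.ker φ := by
      refine Ideal.span_le.2 ?_
      rintro _ ⟨⟨k, s⟩, rfl⟩
      refine (mapC_eq_zero Q φ _).1 ?_ s
      rw [mapC_defect Q F z φ hgO hφ.symm, (mem_SOeven_iff Q hQ hm F hF z hgO).1 hg, sub_self]
    refine ⟨Ideal.Quotient.liftₐ _ φ hker, ?_⟩
    rw [Matrix.map_map, ← hφ]
    rfl
  · obtain ⟨h1, h2, -⟩ := (Groth.L15.OrthSm.sol_univMat (Groth.L15.OrthSm.bmat Q) False).map (φ.comp mk)
    obtain ⟨g, hg⟩ := Groth.L15.OrthSm.exists_mat (R := R) B _ h2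
    rw [← hg] at h1
    have hgO := (mem_orth_iff Q B g).2 ((Groth.L15.OrthSm.mem_orth Q B g).2 h1)
    refine ⟨g, (mem_sorth_even_iff Q ⟨m, two_mul m⟩ B g).2
      ((mem_SOeven_iff Q hQ hm F hF z hgO).2 fun k => ?_), by rw [hg, Matrix.map_map]; rfl⟩
    rw [← sub_eq_zero, ← mapC_defect Q F z (φ.comp mk) hgO hg, mapC_eq_zero]
    intro s
    show φ (mk _) = 0
    rw [show mk ((coord Q _).repr (defect Q F z k) s) = 0 from
      Ideal.Quotient.eq_zero_iff_mem.2 (Ideal.subset_span ⟨(k, s), rfl⟩), map_zero]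

include hQ hm in
theorem formallySmooth_even (P : RepMat (fun A _ _ => QuadGrp.sorth Q A) (UnivEven Q F z)) :
    Algebra.FormallySmooth R (UnivEven Q F z) := by
  haveI := finitePresentation_even Q F z
  refine formallySmooth_of_local_lifts fun S _ _ _ I hI f₀ => ?_
  haveI := isLocalRing_quot hI
  obtain ⟨g₀, hg₀, hU⟩ := P.exists_elt (S ⧸ I) f₀
  rw [mem_sorth_even_iff Q ⟨m, two_mul m⟩] at hg₀
  obtain ⟨hg₀O, hD₀⟩ := hg₀
  obtain ⟨g, hg, -, hgr⟩ := exists_isometry_lift Q
    (Groth.L15.OrthSm.lifts_of_regular _ (Groth.L15.OrthSm.isUnit_det_of_regular Q hQ) False False.elim)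
    hI hg₀O False.elim
  have hMS : Module.finrank S (S ⊗[R] (Fin (2 * m) → R)) = 2 * m := finrank_vec S
  have hQS := isRegular_baseChange S hQ
  have hQ0 := isRegular_baseChange (S ⧸ I) hQ
  obtain ⟨F', hF'⟩ := exists_evenFrame m _ hMS hQS
  obtain ⟨w, hw, -⟩ := F'.exists_zed hF'
  have hmat : Groth.L15.OrthSm.mat (S ⧸ I) g₀ = (Groth.L15.OrthSm.mat S g).map (Ideal.Quotient.mkₐ R I) := by
    refine Groth.L15.OrthSm.mat_natural (Ideal.Quotient.mkₐ R I) g g₀ fun v => ?_
    rw [show (1 : S ⧸ I) ⊗ₜ[R] v = redV I ((1 : S) ⊗ₜ[R] v) by simp [redV], ← hgr]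
  have hmem : g ∈ QuadGrp.SOeven (QuadGrp.baseChangeForm S Q) := by
    refine ⟨hg, (isDicksonTrivial_iff_of_zed hw hQS (F'.unit_e ⟨0, hm⟩) hg).2 ?_⟩
    rcases zed_det_dichotomy hMS hQS hw hg with ⟨h, -⟩ | ⟨h, -⟩
    · exact h
    exfalso
    let mk := Ideal.Quotient.mkₐ R I
    have hw' : IsZed (QuadGrp.baseChangeForm (S ⧸ I) Q) (mapC Q mk w) := by
      refine ⟨mapC_even Q mk hw.even, fun v => ?_, ?_⟩
      · obtain ⟨v', rfl⟩ := redV_surjective v
        rw [← mapC_ι, ← map_mul, hw.anti, map_mul, map_sub, map_one]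
      · obtain ⟨c, hc, hu⟩ := hw.sq
        refine ⟨mk c, by rw [← map_mul, hc, map_add, mapC_algebraMap], ?_⟩
        simpa [map_ofNat] using hu.map mk
    have hv' : IsUnit (QuadGrp.baseChangeForm (S ⧸ I) Q (red mk (F'.e ⟨0, hm⟩))) := by
      rw [form_red]; exact (F'.unit_e ⟨0, hm⟩).map mk
    have hfix := (isDicksonTrivial_iff_of_zed hw' hQ0 hv' hg₀O).1 hD₀
    rw [← mapC_cl Q mk hg hg₀O hmat, h, map_sub, map_one] at hfix
    exact hw'.ne_one_sub hfix.symm
  obtain ⟨f, hf⟩ := P.exists_hom S g ((mem_sorth_even_iff Q ⟨m, two_mul m⟩ S g).2 hmem)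
  refine ⟨f, P.ext _ _ _ ?_⟩
  rw [← hU, hmat, ← hf, Matrix.map_map]
  rfl

end Even

end Groth.L11.SOGrp
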